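/-
A subgroup equal to the normalizer of each of its Sylow subgroups has a normal complement.
-/
import Cfsg.Agent.Transfer.Frobenius
import Cfsg.Agent.Transfer.Residual
import Cfsg.Agent.ZJ.Fpf
import Cfsg.Agent.Hall.Basic

set_option autoImplicit false
set_option linter.style.haveILetI false

namespace CfsgLib.Hall.NormComplement

open scoped Pointwise

theorem sylow_normal_of_nilpotent {H : Type*} [Group H] [Finite H] (hnil : Group.IsNilpotent H) (p : ℕ)
    [hp : Fact p.Prime] (P : Sylow p H) : (P : Subgroup H).Normal :=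
  ((Group.isNilpotent_of_finite_tfae (G := H)).out 0 3 :
    Group.IsNilpotent H ↔ ∀ (p : ℕ) (_hp : Fact p.Prime) (P : Sylow p H), (P : Subgroup H).Normal).mp hnil p hp P

theorem commute_sylow_complement {H : Type*} [Group H] [Finite H] [Group.IsNilpotent H] (p : ℕ)
    [Fact p.Prime] (P : Sylow p H) (h : H) :
    ∃ a ∈ (P : Subgroup H), ∃ b : H, a * b = h ∧ ∀ x ∈ (P : Subgroup H), b * x = x * b := by
  obtain ⟨S, N, hN, hNS⟩ := CfsgLib.ZJ.hasNormalPComplement_of_isNilpotent (G := H) p
  haveI hPn : (P : Subgroup H).Normal := sylow_normal_of_nilpotent ‹_› p P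
  obtain ⟨g, hg⟩ := MulAction.exists_smul_eq H P S
  rw [Sylow.smul_eq_of_normal] at hg
  subst hg
  obtain ⟨⟨a, b⟩, hab⟩ := hNS.symm.2 h
  refine ⟨a, a.2, b, hab, fun x hx => ?_⟩
  exact (Subgroup.commute_of_normal_of_disjoint _ _ hPn hN hNS.disjoint.symm x b hx b.2).eq.symm

theorem normal_complement {G : Type*} [Group G] [Finite G] (H : Subgroup G)
    (hnot : ∀ p : ℕ, p.Prime → ∀ P : Sylow p G, (P : Subgroup G) ≠ H)
    (hnorm : ∀ p : ℕ, p.Prime → p ∣ Nat.card H → ∀ P : Sylow p H,
      Subgroup.normalizer (((P : Subgroup H).map H.subtype : Subgroup G) : Set G) = H) :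
    ∃ N : Subgroup G, N.Normal ∧ Subgroup.IsComplement' N H := by
  haveI hnil : Group.IsNilpotent H := (Group.isNilpotent_of_finite_tfae.out 0 3).mpr fun p hp P => by
    haveI := hp
    by_cases hpd : p ∣ Nat.card H
    · have h1 := (Subgroup.normal_subgroupOf_iff_le_normalizer (Subgroup.map_subtype_le (P : Subgroup H))).mpr
        (hnorm p hp.out hpd P).ge
      rwa [Subgroup.subgroupOf, Subgroup.comap_map_eq_self_of_injective H.subtype_injective] at h1
    · have hR1 : (P : Subgroup H) = ⊥ := by
        rw [← Subgroup.card_eq_one, P.card_eq_multiplicity, Nat.factorization_eq_zero_of_not_dvd hpd, pow_zero]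
      rw [hR1]; infer_instance
  -- Sylow subgroups of `H` are Sylow subgroups of `G`
  have hsyl : ∀ (p : ℕ) [Fact p.Prime], p ∣ Nat.card H → ∀ P : Sylow p H,
      ∃ S : Sylow p G, (S : Subgroup G) = (P : Subgroup H).map H.subtype := by
    intro p _ hpd P
    obtain ⟨S, hS⟩ := (P.2.map H.subtype).exists_le_sylow
    refine ⟨S, le_antisymm ?_ hS⟩
    haveI := S.2.isNilpotent
    set Q := (P : Subgroup H).map H.subtype with hQ
    have htop : Q.subgroupOf (S : Subgroup G) = ⊤ := by
      refine (normalizerCondition_iff_only_full_group_self_normalizing.mp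
        Group.normalizerCondition_of_isNilpotent) _ (le_antisymm (fun w hw => ?_) Subgroup.le_normalizer)
      have hwn : (w : G) ∈ Subgroup.normalizer (Q : Set G) := Subgroup.mem_normalizer_fintype fun x hx =>
        (Subgroup.mem_normalizer_iff.mp hw ⟨x, hS hx⟩).mp
          (show (⟨x, hS hx⟩ : (S : Subgroup G)) ∈ Q.subgroupOf _ from hx)
      rw [hQ, hnorm p Fact.out hpd P] at hwn
      have hle : (S : Subgroup G).subgroupOf H = (P : Subgroup H) := by
        refine P.3 (S.2.comap_of_injective H.subtype H.subtype_injective) fun y hy => ?_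
        exact Subgroup.mem_subgroupOf.mpr (hS ⟨y, hy, rfl⟩)
      exact Subgroup.mem_subgroupOf.mpr ⟨⟨w, hwn⟩, hle.le (Subgroup.mem_subgroupOf.mpr w.2), rfl⟩
    exact Subgroup.subgroupOf_eq_top.mp htop
  have htwo : ∀ p : ℕ, p.Prime → p ∣ Nat.card H → ∃ q : ℕ, q.Prime ∧ q ∣ Nat.card H ∧ q ≠ p := by
    intro p hp hpd
    by_contra hcon
    push Not at hcon
    haveI := Fact.mk hp
    have hH : IsPGroup p H := IsPGroup.of_card (n := (Nat.card H).primeFactorsList.length)
      (Nat.eq_prime_pow_of_unique_prime_dvd Nat.card_pos.ne' fun {r} hr hrd => hcon r hr hrd)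
    obtain ⟨P⟩ : Nonempty (Sylow p H) := inferInstance
    obtain ⟨S, hS⟩ := hsyl p hpd P
    refine hnot p hp S ?_
    rw [hS, ← P.3 (hH.to_subgroup ⊤) le_top, ← MonoidHom.range_eq_map, Subgroup.range_subtype]
  have hHne : H ≠ ⊥ := by
    intro hb
    obtain ⟨p, hple, hp⟩ := Nat.exists_infinite_primes (Nat.card G + 1)
    haveI := Fact.mk hp
    obtain ⟨S⟩ : Nonempty (Sylow p G) := inferInstance
    refine hnot p hp S ?_
    rw [hb, ← Subgroup.card_eq_one, S.card_eq_multiplicity, Nat.factorization_eq_zero_of_not_dvd, pow_zero]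
    intro hd
    have := Nat.le_of_dvd Nat.card_pos hd
    omega
  -- each prime of `H` gives a normal complement
  have hcomp : ∀ p ∈ (Nat.card H).primeFactors, ∃ N : Subgroup G, N.Normal ∧ ¬ p ∣ Nat.card N ∧
      N.index = p ^ (Nat.card H).factorization p := by
    intro p hp
    have hpp := Nat.prime_of_mem_primeFactors hp
    have hpd := Nat.dvd_of_mem_primeFactors hp
    haveI := Fact.mk hpp
    obtain ⟨P⟩ : Nonempty (Sylow p H) := inferInstance
    obtain ⟨S, hS⟩ := hsyl p hpd P
    have hctrl : Cfsg.HasNormalPComplement p G := by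
      refine CfsgLib.Transfer.hasNormalPComplement_of_control S fun x hx g hgx => ?_
      obtain ⟨q, hq, hqd, hqp⟩ := htwo p hpp hpd
      haveI := Fact.mk hq
      obtain ⟨Q⟩ : Nonempty (Sylow q H) := inferInstance
      obtain ⟨T, hT⟩ := hsyl q hqd Q
      have hcen : ∀ y ∈ (S : Subgroup G), (T : Subgroup G) ≤ Subgroup.centralizer ({y} : Set G) := by
        intro y hy t ht
        rw [hS] at hy
        rw [hT] at ht
        obtain ⟨y, hy, rfl⟩ := hy
        obtain ⟨t, ht, rfl⟩ := ht
        refine Subgroup.mem_centralizer_singleton_iff.mpr ?_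
        rw [← map_mul, ← map_mul]
        refine congrArg H.subtype ?_
        haveI h1 : (P : Subgroup H).Normal := sylow_normal_of_nilpotent hnil p P
        haveI h2 : (Q : Subgroup H).Normal := sylow_normal_of_nilpotent hnil q Q
        exact (Subgroup.commute_of_normal_of_disjoint _ _ h2 h1
          (IsPGroup.disjoint_of_ne q p hqp _ _ Q.2 P.2) t y ht hy).eq
      set y := g * x * g⁻¹ with hy
      set C := Subgroup.centralizer ({y} : Set G) with hC
      have h1 : (T : Subgroup G) ≤ C := hcen y hgx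
      have h2 : ((g • T : Sylow q G) : Subgroup G) ≤ C := by
        rw [Sylow.coe_subgroup_smul]
        rintro _ ⟨t, ht, rfl⟩
        refine Subgroup.mem_centralizer_singleton_iff.mpr ?_
        have h3 := Subgroup.mem_centralizer_singleton_iff.mp (hcen x hx ht)
        change g * t * g⁻¹ * (g * x * g⁻¹) = g * x * g⁻¹ * (g * t * g⁻¹)
        calc g * t * g⁻¹ * (g * x * g⁻¹) = g * (t * x) * g⁻¹ := by group
          _ = g * (x * t) * g⁻¹ := by rw [h3]
          _ = g * x * g⁻¹ * (g * t * g⁻¹) := by group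
      obtain ⟨c, hc⟩ := MulAction.exists_smul_eq C ((g • T).subtype h2) (T.subtype h1)
      have hceq : (c : G) • g • T = T :=
        Sylow.subtype_injective ((Sylow.smul_subtype h2 c).symm.trans hc)
      rw [← mul_smul] at hceq
      have hH' : (c : G) * g ∈ H := by
        have h4 := Sylow.smul_eq_iff_mem_normalizer.mp hceq
        rw [← T.coe_coe, hT, hnorm q hq hqd Q] at h4
        exact h4
      obtain ⟨a, ha, b, hab, hb⟩ := commute_sylow_complement p P ⟨(c : G) * g, hH'⟩
      rw [hS] at hx
      obtain ⟨x', hx', hxx⟩ := hx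
      refine ⟨(a : G), hS ▸ ⟨a, ha, rfl⟩, ?_⟩
      have hab' : (a : G) * (b : G) = (c : G) * g := congrArg Subtype.val hab
      have hbx : (b : G) * x = x * b := by rw [← hxx]; exact congrArg Subtype.val (hb x' hx')
      have hcy : (c : G) * y * (c : G)⁻¹ = y := by
        rw [Subgroup.mem_centralizer_singleton_iff.mp c.2, mul_inv_cancel_right]
      calc (a : G) * x * (a : G)⁻¹ = a * (x * b) * (b : G)⁻¹ * (a : G)⁻¹ := by group
        _ = a * (b * x) * (b : G)⁻¹ * (a : G)⁻¹ := by rw [hbx]
        _ = (a * b) * x * ((a : G) * b)⁻¹ := by group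
        _ = y := by rw [hab', hy] at *; rw [← hcy]; group
    obtain ⟨S', N, hN, hNS⟩ := hctrl
    refine ⟨N, hN, fun hd => ?_, ?_⟩
    · have h5 := S'.not_dvd_index
      rw [hNS.index_eq_card] at h5
      exact h5 hd
    · rw [hNS.symm.index_eq_card, Nat.card_congr (Sylow.equiv S' S).toEquiv, hS,
        Subgroup.card_map_of_injective H.subtype_injective, P.card_eq_multiplicity]
  choose! N hN using hcomp
  set ι := {p // p ∈ (Nat.card H).primeFactors}
  haveI hn : ∀ i : ι, (N i).Normal := fun i => (hN i i.2).1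
  set D : Subgroup G := ⨅ i : ι, N i with hD
  haveI : D.Normal := Subgroup.normal_iInf_normal hn
  refine ⟨D, inferInstance, ?_⟩
  have hdisj : D ⊓ H = ⊥ := by
    rw [eq_bot_iff]
    rintro x ⟨hx, hxH⟩
    rw [Subgroup.mem_bot, ← orderOf_eq_one_iff]
    by_contra hne
    obtain ⟨q, hq, hqd⟩ := Nat.exists_prime_and_dvd hne
    have hmem : q ∈ (Nat.card H).primeFactors :=
      Nat.mem_primeFactors.mpr ⟨hq, hqd.trans (H.orderOf_dvd_natCard hxH), Nat.card_pos.ne'⟩
    exact (hN q hmem).2.1 (hqd.trans (Subgroup.orderOf_dvd_natCard _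
      ((iInf_le (fun i : ι => N i) ⟨q, hmem⟩) hx)))
  have hidx : D.index ≤ Nat.card H := by
    refine (Subgroup.index_iInf_le _).trans (le_of_eq ?_)
    refine (Finset.prod_congr rfl fun (i : ι) _ => (hN i.1 i.2).2.2).trans ?_
    rw [Finset.univ_eq_attach, Finset.prod_attach _ (fun p => p ^ (Nat.card H).factorization p)]
    exact Nat.prod_factorization_pow_eq_self Nat.card_pos.ne'
  refine Subgroup.isComplement'_of_card_mul_and_disjoint (le_antisymm ?_ ?_) (disjoint_iff.mpr hdisj)
  · have h := card_sup_mul_card_inf D H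
    rw [hdisj, Subgroup.card_bot, mul_one] at h
    rw [← h]
    exact Subgroup.card_le_card_group _
  · calc Nat.card G = Nat.card D * D.index := D.card_mul_index.symm
      _ ≤ Nat.card D * Nat.card H := Nat.mul_le_mul_left _ hidx

end CfsgLib.Hall.NormComplement
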