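/-
`D_π` from a Hall subgroup with a nilpotent σ-factor and `D_τ`.
-/
import Cfsg.Agent.Hall.Schmidt
import Cfsg.Agent.Transfer.Frobenius
import Cfsg.Agent.Transfer.Residual
import Cfsg.Agent.ZJ.Fpf
import Cfsg.Agent.Hall.SylowNormalizersComplement

set_option autoImplicit false
set_option linter.style.haveILetI false

namespace CfsgLib.Hall.DPi

open scoped Pointwise

theorem commute_of_coprime_orders {H : Type*} [Group H] [Finite H] [Group.IsNilpotent H] {p : ℕ}
    [Fact p.Prime] {a b : H} {i : ℕ} (ha : orderOf a = p ^ i) (hb : (orderOf b).Coprime p) : a * b = b * a := by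
  obtain ⟨S, N, hN, hNS⟩ := CfsgLib.ZJ.hasNormalPComplement_of_isNilpotent (G := H) p
  haveI hSn : (S : Subgroup H).Normal := NormComplement.sylow_normal_of_nilpotent inferInstance p S
  haveI := hN
  have haS : a ∈ (S : Subgroup H) := sylow_le_of_normal_not_dvd (S : Subgroup H) S.not_dvd_index
    (IsPGroup.of_card (n := i) (by rw [Nat.card_zpowers, ha])) (Subgroup.mem_zpowers a)
  have hbN : b ∈ N := by
    rw [← QuotientGroup.eq_one_iff, ← orderOf_eq_one_iff]
    obtain ⟨j, hj⟩ := S.2.exists_card_eq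
    refine Nat.eq_one_of_dvd_coprimes (hb.pow_right j) (orderOf_map_dvd (QuotientGroup.mk' N) b) ?_
    rw [← hj, ← hNS.symm.index_eq_card]
    exact orderOf_dvd_natCard (b : H ⧸ N)
  exact (Subgroup.commute_of_normal_of_disjoint _ _ hSn hN hNS.disjoint.symm a b haS hbN).eq

variable {G : Type*} [Group G] [Finite G] {σ τ π : Set ℕ}

theorem dpi (hπ : π = σ ∪ τ) (hd : Disjoint σ τ) (H Hs Ht : Subgroup G) (hH : Cfsg.IsPiHall π H)
    (hs : Cfsg.IsPiSubgroup σ Hs) (ht : Cfsg.IsPiSubgroup τ Ht) (hsn : Group.IsNilpotent Hs)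
    (hjoin : Hs ⊔ Ht = H) (hcomm : ∀ a ∈ Hs, ∀ b ∈ Ht, a * b = b * a) (hD : Cfsg.IsDPiGroup τ G) :
    Cfsg.IsDPiGroup π G := by
  have hHsH : Hs ≤ H := hjoin ▸ le_sup_left
  have hHtH : Ht ≤ H := hjoin ▸ le_sup_right
  have hσπ : σ ⊆ π := hπ ▸ Set.subset_union_left
  have hτπ : τ ⊆ π := hπ ▸ Set.subset_union_right
  have hdis : ∀ p, p ∈ σ → p ∈ τ → False := fun p h1 h2 => Set.disjoint_left.mp hd h1 h2
  have hst : Hs ⊓ Ht = ⊥ := by
    rw [← Subgroup.card_eq_one]
    by_contra h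
    obtain ⟨p, hp, hpd⟩ := Nat.exists_prime_and_dvd h
    exact hdis p (hs p hp (hpd.trans (Subgroup.card_dvd_of_le inf_le_left)))
      (ht p hp (hpd.trans (Subgroup.card_dvd_of_le inf_le_right)))
  have hHt_le : Ht ≤ Subgroup.normalizer (Hs : Set G) := fun b hb =>
    Subgroup.centralizer_le_normalizer _ (Subgroup.mem_centralizer_iff.mpr fun a ha => hcomm a ha b hb)
  have hdec : ∀ h ∈ H, ∃ a ∈ Hs, ∃ b ∈ Ht, a * b = h := fun h hh =>
    exists_mul_of_mem_sup hHt_le (hjoin.symm ▸ hh)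
  have hcard : Nat.card H = Nat.card Hs * Nat.card Ht := by
    haveI : (Hs.subgroupOf H).Normal := (Subgroup.normal_subgroupOf_iff_le_normalizer hHsH).mpr
      (hjoin ▸ sup_le Subgroup.le_normalizer hHt_le)
    have h := card_sup_mul_card_inf (Hs.subgroupOf H) (Ht.subgroupOf H)
    rw [← Subgroup.subgroupOf_sup hHsH hHtH, hjoin, Subgroup.subgroupOf_self, Subgroup.card_top,
      show Hs.subgroupOf H ⊓ Ht.subgroupOf H = (Hs ⊓ Ht).subgroupOf H from rfl, hst, Subgroup.bot_subgroupOf,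
      Subgroup.card_bot, mul_one, Nat.card_congr (Subgroup.subgroupOfEquivOfLe hHsH).toEquiv,
      Nat.card_congr (Subgroup.subgroupOfEquivOfLe hHtH).toEquiv] at h
    exact h
  have hsidx : ∀ p : ℕ, p.Prime → p ∈ σ → ¬ p ∣ Hs.index := by
    intro p hp hpσ hd'
    have h1 : Hs.index = Nat.card Ht * H.index := by
      refine Nat.eq_of_mul_eq_mul_left (Nat.card_pos (α := Hs)) ?_
      rw [Hs.card_mul_index, ← mul_assoc, ← hcard, H.card_mul_index]
    rcases hp.dvd_mul.mp (h1 ▸ hd') with h | h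
    · exact hdis p hpσ (ht p hp h)
    · exact hH.2 p hp (hσπ hpσ) h
  have htidx : ∀ p : ℕ, p.Prime → p ∈ τ → ¬ p ∣ Ht.index := by
    intro p hp hpτ hd'
    have h1 : Ht.index = Nat.card Hs * H.index := by
      refine Nat.eq_of_mul_eq_mul_left (Nat.card_pos (α := Ht)) ?_
      rw [Ht.card_mul_index, ← mul_assoc, mul_comm (Nat.card Ht), ← hcard, H.card_mul_index]
    rcases hp.dvd_mul.mp (h1 ▸ hd') with h | h
    · exact hdis p (hs p hp h) hpτ
    · exact hH.2 p hp (hτπ hpτ) h
  -- maximal subgroups with a given prime set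
  have hmaxHall : ∀ (ρ : Set ℕ) (X : Subgroup G), Cfsg.IsPiSubgroup ρ X → (∀ p : ℕ, p.Prime → p ∈ ρ → ¬ p ∣ X.index) →
      Maximal (Cfsg.IsPiSubgroup ρ) X := by
    intro ρ X hX hXi
    refine ⟨hX, fun Y hY hXY => ?_⟩
    by_contra hne
    have hr : X.relIndex Y ≠ 1 := fun h => hne (Subgroup.relIndex_eq_one.mp h)
    obtain ⟨p, hp, hpd⟩ := Nat.exists_prime_and_dvd hr
    have hpY : p ∣ Nat.card Y := hpd.trans (by
      rw [Subgroup.relIndex]; exact Subgroup.index_dvd_card _)
    refine hXi p hp (hY p hp hpY) (hpd.trans ⟨Y.index, (Subgroup.relIndex_mul_index hXY).symm⟩)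
  have hmaxle : ∀ (ρ : Set ℕ) (L : Subgroup G), Cfsg.IsPiSubgroup ρ L → ∃ M, L ≤ M ∧ Maximal (Cfsg.IsPiSubgroup ρ) M :=
    fun ρ L hL => (Set.toFinite {M : Subgroup G | Cfsg.IsPiSubgroup ρ M}).exists_le_maximal hL
  have F0 : ∀ L : Subgroup G, Cfsg.IsPiSubgroup τ L → ∃ x : G, L ≤ MulAut.conj x • Ht := by
    intro L hL
    obtain ⟨M, hLM, hM⟩ := hmaxle τ L hL
    obtain ⟨x, hx⟩ := hD Ht M (hmaxHall τ Ht ht htidx) hM
    exact ⟨x, hLM.trans (le_of_eq hx)⟩
  -- elements of coprime orders commute in `H`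
  have F2 : ∀ (p : ℕ) (_ : Fact p.Prime) (a : G) (i : ℕ), a ∈ Hs → orderOf a = p ^ i →
      ∀ b ∈ H, (orderOf b).Coprime p → a * b = b * a := by
    intro p _ a i ha hao b hb hbp
    obtain ⟨u, hu, v, hv, rfl⟩ := hdec b hb
    have hc : Commute u v := hcomm u hu v hv
    have hun : u ^ orderOf (u * v) ∈ Hs ⊓ Ht := by
      refine ⟨Subgroup.pow_mem _ hu _, ?_⟩
      have h := pow_orderOf_eq_one (u * v)
      rw [hc.mul_pow] at h
      rw [eq_inv_of_mul_eq_one_left h]
      exact Ht.inv_mem (Ht.pow_mem hv _)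
    rw [hst, Subgroup.mem_bot] at hun
    haveI := hsn
    have h1 : a * u = u * a := congrArg Subtype.val (commute_of_coprime_orders (H := Hs) (p := p)
      (a := ⟨a, ha⟩) (b := ⟨u, hu⟩) (i := i) (by rw [Subgroup.orderOf_mk, hao])
      (by rw [Subgroup.orderOf_mk]; exact hbp.coprime_dvd_left (orderOf_dvd_of_pow_eq_one hun)))
    exact ((show Commute a u from h1).mul_right (show Commute a v from hcomm a ha v hv)).eq
  -- π-elements normalising a σ-`p`-subgroup and of order prime to `p` centralise it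
  have step0 : ∀ (p : ℕ) (_ : Fact p.Prime), p ∈ σ → ∀ Q : Subgroup G, IsPGroup p Q →
      ∀ g ∈ Subgroup.normalizer (Q : Set G), (orderOf g).Coprime p →
      (∀ r : ℕ, r.Prime → r ∣ orderOf g → r ∈ π) → g ∈ Subgroup.centralizer (Q : Set G) := by
    intro p hpf hpσ Q hQ g hg hgp hgπ
    have hp : p.Prime := hpf.out
    obtain ⟨S₀⟩ : Nonempty (Sylow p Hs) := inferInstance
    let S₁ : Sylow p G := (S₀.2.map Hs.subtype).toSylow (by
      rw [Subgroup.index_map_subtype]
      exact hp.not_dvd_mul S₀.not_dvd_index (hsidx p hp hpσ))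
    obtain ⟨S, hQS⟩ := hQ.exists_le_sylow
    obtain ⟨x, hx⟩ := MulAction.exists_smul_eq G S₁ S
    have hQx : ∀ q ∈ Q, x⁻¹ * q * x ∈ Hs := by
      intro q hq
      have h1 : q ∈ ((x • S₁ : Sylow p G) : Subgroup G) := by rw [hx]; exact hQS hq
      rw [Sylow.coe_subgroup_smul] at h1
      obtain ⟨_, ⟨s, -, rfl⟩, rfl⟩ := h1
      simp [mul_assoc]
    set C := Subgroup.centralizer (Q : Set G) with hC
    set N := Subgroup.normalizer (Q : Set G) with hN
    have hCN : C ≤ N := Subgroup.centralizer_le_normalizer _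
    haveI : (C.subgroupOf N).Normal := ⟨fun c hc n => Subgroup.mem_centralizer_iff.mpr fun q hq => by
      have hq' : (n : G)⁻¹ * q * n ∈ Q := (Subgroup.mem_normalizer_iff''.mp n.2 q).mp hq
      have h := Subgroup.mem_centralizer_iff.mp hc _ hq'
      change q * ((n : G) * c * (n : G)⁻¹) = (n : G) * c * (n : G)⁻¹ * q
      calc q * ((n : G) * c * (n : G)⁻¹) = (n : G) * (((n : G)⁻¹ * q * n) * c) * (n : G)⁻¹ := by group
        _ = (n : G) * ((c : G) * ((n : G)⁻¹ * q * n)) * (n : G)⁻¹ :=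
          congrArg (fun u => (n : G) * u * (n : G)⁻¹) h
        _ = (n : G) * c * (n : G)⁻¹ * q := by group⟩
    have hCr : ∀ r : ℕ, r.Prime → r ∈ π → r ≠ p → ¬ r ∣ C.index := by
      intro r hr hrπ hrp hrC
      haveI := Fact.mk hr
      obtain ⟨R₀⟩ : Nonempty (Sylow r H) := inferInstance
      have hR : ¬ r ∣ (MulAut.conj x • ((R₀ : Subgroup H).map H.subtype)).index := by
        intro h
        rw [show (MulAut.conj x • ((R₀ : Subgroup H).map H.subtype)).index = ((R₀ : Subgroup H).map H.subtype).index by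
          apply Nat.eq_of_mul_eq_mul_left (Nat.card_pos (α := ((R₀ : Subgroup H).map H.subtype : Subgroup G)))
          rw [Subgroup.card_mul_index,
            show Nat.card ((R₀ : Subgroup H).map H.subtype : Subgroup G) =
              Nat.card (MulAut.conj x • ((R₀ : Subgroup H).map H.subtype) : Subgroup G) from
              Nat.card_congr (Subgroup.equivSMul (MulAut.conj x) _).toEquiv, Subgroup.card_mul_index],
          Subgroup.index_map_subtype] at h
        exact hr.not_dvd_mul R₀.not_dvd_index (hH.2 r hr hrπ) h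
      refine hR (hrC.trans (Subgroup.index_dvd_of_le ?_))
      rintro _ ⟨_, ⟨b, hb, rfl⟩, rfl⟩
      refine Subgroup.mem_centralizer_iff.mpr fun q hq => ?_
      obtain ⟨i, hi⟩ := IsPGroup.iff_orderOf.mp hQ ⟨q, hq⟩
      rw [Subgroup.orderOf_mk] at hi
      obtain ⟨j, hj⟩ := IsPGroup.iff_orderOf.mp R₀.2 ⟨b, hb⟩
      rw [Subgroup.orderOf_mk] at hj
      have h := F2 p hpf (x⁻¹ * q * x) i (hQx q hq) (by
        rw [← hi]
        have := orderOf_injective (MulAut.conj x⁻¹).toMonoidHom (MulAut.conj x⁻¹).injective q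
        simpa using this)
        (b : G) b.2 (by rw [Subgroup.orderOf_coe, hj]; exact Nat.Coprime.pow_left j ((Nat.coprime_primes hr hp).mpr hrp))
      change q * (x * (b : G) * x⁻¹) = x * (b : G) * x⁻¹ * q
      calc q * (x * (b : G) * x⁻¹) = x * ((x⁻¹ * q * x) * b) * x⁻¹ := by group
        _ = x * ((b : G) * (x⁻¹ * q * x)) * x⁻¹ := by rw [h]
        _ = x * (b : G) * x⁻¹ * q := by group
    have hmem : (⟨g, hg⟩ : N) ∈ C.subgroupOf N := by
      rw [← QuotientGroup.eq_one_iff, ← orderOf_eq_one_iff]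
      by_contra hne
      obtain ⟨r, hr, hrd⟩ := Nat.exists_prime_and_dvd hne
      have h1 : r ∣ orderOf g := by
        have := hrd.trans (orderOf_map_dvd (QuotientGroup.mk' (C.subgroupOf N)) ⟨g, hg⟩)
        rwa [Subgroup.orderOf_mk] at this
      have h2 : r ∣ C.relIndex N := hrd.trans (orderOf_dvd_natCard _)
      have hrp : r ≠ p := by
        rintro rfl
        exact hr.ne_one (Nat.eq_one_of_dvd_coprimes hgp h1 dvd_rfl)
      exact hCr r hr (hgπ r hr h1) hrp (h2.trans ⟨N.index, (Subgroup.relIndex_mul_index hCN).symm⟩)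
    exact hmem
  -- every π-subgroup lies in a conjugate of `H`
  have key : ∀ K : Subgroup G, Cfsg.IsPiSubgroup π K → ∃ x : G, K ≤ MulAut.conj x • H := by
    intro K hK
    have hloc : ∀ p : ℕ, p.Prime → p ∈ σ → ¬ p ∣ Nat.card (Cfsg.pResidual p K) := by
      intro p hp hpσ
      haveI := Fact.mk hp
      refine CfsgLib.Transfer.hasNormalPComplement_iff.mp (CfsgLib.Transfer.frobenius_normal_complement ?_)
      intro Q hQ g hg hgp
      have h := step0 p ⟨hp⟩ hpσ (Q.map K.subtype) (hQ.map _) (g : G)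
        (Subgroup.mem_normalizer_fintype (by
          rintro _ ⟨q, hq, rfl⟩
          exact ⟨g * q * g⁻¹, (Subgroup.mem_normalizer_iff.mp hg q).mp hq, by simp⟩))
        (by rw [Subgroup.orderOf_coe]; exact hgp)
        (fun r hr hrd => hK r hr (hrd.trans (K.orderOf_dvd_natCard g.2)))
      exact Subgroup.mem_centralizer_iff.mpr fun q hq =>
        Subtype.ext (Subgroup.mem_centralizer_iff.mp h _ ⟨q, hq, rfl⟩)
    set ι := {p : ℕ // p ∈ (Nat.card K).primeFactors ∧ p ∈ σ}
    set T : Subgroup K := ⨅ i : ι, Cfsg.pResidual (i : ℕ) K with hT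
    haveI hTn : T.Normal := Subgroup.normal_iInf_normal fun i => CfsgLib.Transfer.pResidual_normal
    have hTσ : ∀ p : ℕ, p.Prime → p ∈ σ → ¬ p ∣ Nat.card T := fun p hp hpσ hd' => by
      have hmem : p ∈ (Nat.card K).primeFactors :=
        Nat.mem_primeFactors.mpr ⟨hp, hd'.trans T.card_subgroup_dvd_card, Nat.card_pos.ne'⟩
      exact hloc p hp hpσ (hd'.trans (Subgroup.card_dvd_of_le
        (iInf_le (fun i : ι => Cfsg.pResidual (i : ℕ) K) ⟨p, hmem, hpσ⟩)))
    have hTτ : ∀ r : ℕ, r.Prime → r ∣ T.index → r ∈ σ := by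
      intro r hr hrd
      by_contra hrσ
      haveI := Fact.mk hr
      obtain ⟨R⟩ : Nonempty (Sylow r K) := inferInstance
      refine R.not_dvd_index (hrd.trans (Subgroup.index_dvd_of_le fun y hy => ?_))
      refine Subgroup.mem_iInf.mpr fun i => ?_
      haveI := Fact.mk (Nat.prime_of_mem_primeFactors i.2.1)
      refine CfsgLib.Transfer.mem_pResidual_of_coprime ?_
      obtain ⟨j, hj⟩ := IsPGroup.iff_orderOf.mp R.2 ⟨y, hy⟩
      rw [Subgroup.orderOf_mk] at hj
      rw [hj]
      exact Nat.Coprime.pow_left j ((Nat.coprime_primes hr Fact.out).mpr fun h => hrσ (h ▸ i.2.2))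
    have hcop : (Nat.card T).Coprime T.index := Nat.coprime_of_dvd fun r hr h1 h2 =>
      hTσ r hr (hTτ r hr h2) h1
    obtain ⟨Ks, hKs⟩ := Subgroup.exists_right_complement'_of_coprime hcop
    set T' := T.map K.subtype with hT'
    have hT'τ : Cfsg.IsPiSubgroup τ T' := fun r hr hrd => by
      rw [hT', Subgroup.card_map_of_injective K.subtype_injective] at hrd
      have hmem := hK r hr (hrd.trans T.card_subgroup_dvd_card)
      rw [hπ] at hmem
      exact hmem.resolve_left fun h => hTσ r hr h hrd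
    obtain ⟨x, hx⟩ := F0 T' hT'τ
    set C := Subgroup.centralizer (T' : Set G) with hC
    set Hs' := MulAut.conj x • Hs with hHs'
    have hHsC : Hs' ≤ C := by
      rintro _ ⟨a, ha, rfl⟩
      refine Subgroup.mem_centralizer_iff.mpr fun q hq => ?_
      obtain ⟨b, hb, rfl⟩ := hx hq
      change x * b * x⁻¹ * (x * a * x⁻¹) = x * a * x⁻¹ * (x * b * x⁻¹)
      calc x * b * x⁻¹ * (x * a * x⁻¹) = x * (b * a) * x⁻¹ := by group
        _ = x * (a * b) * x⁻¹ := by rw [hcomm a ha b hb]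
        _ = x * a * x⁻¹ * (x * b * x⁻¹) := by group
    have hHs'i : Hs'.index = Hs.index := by
      apply Nat.eq_of_mul_eq_mul_left (Nat.card_pos (α := Hs))
      rw [Hs.card_mul_index, show Nat.card Hs = Nat.card Hs' from
        Nat.card_congr (Subgroup.equivSMul (MulAut.conj x) Hs).toEquiv, Hs'.card_mul_index]
    set N := Subgroup.normalizer (T' : Set G) with hN
    have hCN : C ≤ N := Subgroup.centralizer_le_normalizer _
    have hKN : K ≤ N := by
      rw [hN, ← Subgroup.normal_subgroupOf_iff_le_normalizer (Subgroup.map_subtype_le T), Subgroup.subgroupOf,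
        Subgroup.comap_map_eq_self_of_injective K.subtype_injective]
      exact hTn
    haveI : (C.subgroupOf N).Normal := ⟨fun c hc n => Subgroup.mem_centralizer_iff.mpr fun q hq => by
      have hq' : (n : G)⁻¹ * q * n ∈ T' := (Subgroup.mem_normalizer_iff''.mp n.2 q).mp hq
      have h := Subgroup.mem_centralizer_iff.mp hc _ hq'
      change q * ((n : G) * c * (n : G)⁻¹) = (n : G) * c * (n : G)⁻¹ * q
      calc q * ((n : G) * c * (n : G)⁻¹) = (n : G) * (((n : G)⁻¹ * q * n) * c) * (n : G)⁻¹ := by group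
        _ = (n : G) * ((c : G) * ((n : G)⁻¹ * q * n)) * (n : G)⁻¹ :=
          congrArg (fun u => (n : G) * u * (n : G)⁻¹) h
        _ = (n : G) * c * (n : G)⁻¹ * q := by group⟩
    have hKsC : Ks.map K.subtype ≤ C := by
      rintro _ ⟨k, hk, rfl⟩
      have hmem : (⟨(k : G), hKN k.2⟩ : N) ∈ C.subgroupOf N := by
        rw [← QuotientGroup.eq_one_iff, ← orderOf_eq_one_iff]
        by_contra hne
        obtain ⟨r, hr, hrd⟩ := Nat.exists_prime_and_dvd hne
        have h1 : r ∣ orderOf k := by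
          have := hrd.trans (orderOf_map_dvd (QuotientGroup.mk' (C.subgroupOf N)) ⟨(k : G), hKN k.2⟩)
          rwa [Subgroup.orderOf_mk, Subgroup.orderOf_coe] at this
        have h2 : r ∣ C.relIndex N := hrd.trans (orderOf_dvd_natCard _)
        have hrσ : r ∈ σ := hTτ r hr (by
          rw [hKs.symm.index_eq_card]; exact h1.trans (Ks.orderOf_dvd_natCard hk))
        refine hsidx r hr hrσ ((h2.trans ⟨N.index, (Subgroup.relIndex_mul_index hCN).symm⟩).trans ?_)
        rw [← hHs'i]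
        exact Subgroup.index_dvd_of_le hHsC
      exact hmem
    haveI : Group.IsNilpotent (Hs'.subgroupOf C) := by
      haveI := hsn
      exact Group.nilpotent_of_mulEquiv
        ((Subgroup.equivSMul (MulAut.conj x) Hs).trans (Subgroup.subgroupOfEquivOfLe hHsC).symm)
    have hcardC : Nat.card (Hs'.subgroupOf C) = Nat.card Hs :=
      (Nat.card_congr (Subgroup.subgroupOfEquivOfLe hHsC).toEquiv).trans
        (Nat.card_congr (Subgroup.equivSMul (MulAut.conj x) Hs).toEquiv).symm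
    obtain ⟨c, hc⟩ := wielandt_nilpotent_hall (Hs'.subgroupOf C) ((Ks.map K.subtype).subgroupOf C) ‹_›
      (Nat.coprime_of_dvd fun r hr h1 h2 => by
        rw [hcardC] at h1
        refine hsidx r hr (hs r hr h1) ?_
        rw [← hHs'i]
        exact h2.trans ⟨C.index, (Subgroup.relIndex_mul_index hHsC).symm⟩)
      (fun r hr hrd => by
        rw [Nat.card_congr (Subgroup.subgroupOfEquivOfLe hKsC).toEquiv,
          Subgroup.card_map_of_injective K.subtype_injective] at hrd
        have hrσ : r ∈ σ := hTτ r hr (by rw [hKs.symm.index_eq_card]; exact hrd)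
        have hrG : r ∣ Nat.card G := hrd.trans (Ks.card_subgroup_dvd_card.trans K.card_subgroup_dvd_card)
        rw [← Hs.card_mul_index] at hrG
        rw [hcardC]
        exact (hr.dvd_mul.mp hrG).resolve_right (hsidx r hr hrσ))
    refine ⟨(c : G) * x, fun k hk => ?_⟩
    obtain ⟨⟨t, s⟩, hts⟩ := hKs.2 (⟨k, hk⟩ : K)
    have hk' : k = ((t : K) : G) * ((s : K) : G) := (congrArg Subtype.val hts).symm
    rw [hk']
    refine Subgroup.mul_mem _ ?_ ?_
    · obtain ⟨b, hb, hbt⟩ := hx (⟨t, t.2, rfl⟩ : ((t : K) : G) ∈ T')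
      refine ⟨b, hHtH hb, ?_⟩
      change (c : G) * x * b * ((c : G) * x)⁻¹ = ((t : K) : G)
      have hct := Subgroup.mem_centralizer_iff.mp c.2 _ (⟨t, t.2, rfl⟩ : ((t : K) : G) ∈ T')
      have hbt' : x * b * x⁻¹ = ((t : K) : G) := hbt
      calc (c : G) * x * b * ((c : G) * x)⁻¹ = (c : G) * (x * b * x⁻¹) * (c : G)⁻¹ := by group
        _ = ((t : K) : G) := by rw [hbt', ← hct, mul_inv_cancel_right]
    · have hsC : ((s : K) : G) ∈ C := hKsC ⟨s, s.2, rfl⟩
      obtain ⟨w, hw, hwe⟩ := hc (show (⟨_, hsC⟩ : C) ∈ (Ks.map K.subtype).subgroupOf C from ⟨s, s.2, rfl⟩)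
      obtain ⟨a, ha, hae⟩ := hw
      refine ⟨a, hHsH ha, ?_⟩
      change (c : G) * x * a * ((c : G) * x)⁻¹ = ((s : K) : G)
      have hw' : x * a * x⁻¹ = (w : G) := hae
      have hwe' : (c : G) * (w : G) * (c : G)⁻¹ = ((s : K) : G) := congrArg Subtype.val hwe
      rw [← hwe', ← hw']
      group
  intro K L hK hL
  have hHπ : Cfsg.IsPiSubgroup π H := hH.1
  have hconj : ∀ M : Subgroup G, Maximal (Cfsg.IsPiSubgroup π) M → ∃ x : G, M = MulAut.conj x • H := fun M hM => by
    obtain ⟨x, hx⟩ := key M hM.prop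
    refine ⟨x, le_antisymm hx (hM.2 (fun r hr hrd => hHπ r hr ?_) hx)⟩
    rwa [← Nat.card_congr (Subgroup.equivSMul (MulAut.conj x) H).toEquiv] at hrd
  obtain ⟨x, rfl⟩ := hconj K hK
  obtain ⟨y, rfl⟩ := hconj L hL
  refine ⟨y * x⁻¹, ?_⟩
  show MulAut.conj y • H = MulAut.conj (y * x⁻¹) • (MulAut.conj x • H)
  rw [smul_smul, ← map_mul, inv_mul_cancel_right]

end CfsgLib.Hall.DPi
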