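/-
Taussky: 2-groups with commutator quotient of order 4 have a cyclic subgroup of index 2 and maximal class.
-/
import Cfsg.Agent.PLocalBasics.CyclicIndex
import Cfsg.Agent.PLocalBasics.MaximalClass
import Cfsg.Agent.RankOneP.Basic
import Cfsg.Agent.H29.Dickson.GroupIso
import Cfsg.Agent.Hall.StructBatch
import Cfsg.Agent.S4143

set_option autoImplicit false
set_option linter.style.haveILetI false

namespace CfsgLib.Hall.Taussky

open scoped commutatorElement

universe u

variable {G : Type*} [Group G] [Finite G]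

theorem nonabelian_of_index {n : ℕ} (hn : 3 ≤ n) (hG : Nat.card G = 2 ^ n) (hi : (commutator G).index = 4) :
    ∃ x y : G, x * y ≠ y * x := by
  by_contra h
  push Not at h
  have hb : commutator G = ⊥ := by
    rw [commutator_def, eq_bot_iff, Subgroup.commutator_le]
    intro x _ y _
    rw [Subgroup.mem_bot, commutatorElement_eq_one_iff_mul_comm]
    exact h x y
  rw [hb, Subgroup.index_bot, hG] at hi
  have : 2 ^ 3 ≤ 2 ^ n := Nat.pow_le_pow_right (by norm_num) hn
  omega

theorem exists_cyclic : ∀ (n : ℕ) {X : Type u} [Group X] [Finite X], 3 ≤ n → Nat.card X = 2 ^ n →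
    (commutator X).index = 4 → ∃ a : X, orderOf a = 2 ^ (n - 1) := by
  intro n
  induction n with
  | zero => intro X _ _ hn; omega
  | succ m ih =>
    intro X _ _ hn hX hi
    haveI : Fact (Nat.Prime 2) := ⟨Nat.prime_two⟩
    have hP : IsPGroup 2 X := IsPGroup.of_card hX
    haveI := hP.isNilpotent
    obtain ⟨x, y, hxy⟩ := nonabelian_of_index hn hX hi
    rcases (show m = 2 ∨ 3 ≤ m by omega) with rfl | hm
    · by_contra h
      push Not at h
      have h2 : ∀ g : X, g * g = 1 := by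
        intro g
        have hd : orderOf g ∣ 2 ^ 3 := hX ▸ orderOf_dvd_natCard g
        obtain ⟨i, hi3, ho⟩ := (Nat.dvd_prime_pow Nat.prime_two).1 hd
        rcases (show i ≤ 1 ∨ i = 2 ∨ i = 3 by omega) with h' | rfl | rfl
        · rw [← pow_two, ← orderOf_dvd_iff_pow_eq_one, ho]
          exact (pow_dvd_pow 2 h').trans (by norm_num)
        · exact absurd ho (h g)
        · exact absurd (by rw [orderOf_pow' g (by norm_num : 2 ≠ 0), ho]; norm_num : orderOf (g ^ 2) = 2 ^ 2) (h _)
      refine hxy ?_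
      calc x * y = (y * y) * (x * y) * (x * x)  := by rw [h2, h2, one_mul, mul_one]
        _ = y * ((y * x) * (y * x)) * x := by group
        _ = y * x := by rw [h2, mul_one]
    have hXne : (commutator X) ≠ ⊥ := fun hb => by
      rw [hb, Subgroup.index_bot, hX] at hi
      have : 2 ^ 4 ≤ 2 ^ (m + 1) := Nat.pow_le_pow_right (by norm_num) (by omega)
      omega
    have hne := CfsgLib.Hall.Struct.inf_center_ne_bot (commutator X) hXne
    obtain ⟨z, ⟨hzD, hzZ⟩, hz2⟩ : ∃ z ∈ commutator X ⊓ Subgroup.center X, orderOf z = 2 := by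
      have hd : 2 ∣ Nat.card ↥(commutator X ⊓ Subgroup.center X) := by
        obtain ⟨k, hk⟩ := IsPGroup.iff_card.mp (hP.to_subgroup (commutator X ⊓ Subgroup.center X))
        rw [hk]
        refine dvd_pow_self 2 fun h0 => hne ?_
        rw [h0, pow_zero] at hk
        exact Subgroup.card_eq_one.mp hk
      obtain ⟨w, hw⟩ := exists_prime_orderOf_dvd_card' 2 hd
      exact ⟨w, w.2, by rw [Subgroup.orderOf_coe, hw]⟩
    set Z := Subgroup.zpowers z with hZ
    haveI : Z.Normal := ⟨fun w hw g => by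
      obtain ⟨i, rfl⟩ := Subgroup.mem_zpowers_iff.mp hw
      rw [Subgroup.mem_center_iff.mp ((Subgroup.center X).zpow_mem hzZ i) g, mul_inv_cancel_right]
      exact Subgroup.zpow_mem_zpowers z i⟩
    have hZc : Nat.card Z = 2 := by rw [hZ, Nat.card_zpowers, hz2]
    set f := QuotientGroup.mk' Z with hf
    have hfs : Function.Surjective f := QuotientGroup.mk'_surjective Z
    have hQ : Nat.card (X ⧸ Z) = 2 ^ m := by
      have h := Z.card_eq_card_quotient_mul_card_subgroup
      rw [hX, hZc, pow_succ] at h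
      exact (Nat.eq_of_mul_eq_mul_right (by norm_num) h).symm
    have hDQ : commutator (X ⧸ Z) = (commutator X).map f := by
      rw [commutator_def, commutator_def, Subgroup.map_commutator, Subgroup.map_top_of_surjective f hfs]
    have hQi : (commutator (X ⧸ Z)).index = 4 := by
      rw [hDQ, Subgroup.index_map_eq _ hfs (by rw [QuotientGroup.ker_mk']; exact Subgroup.zpowers_le.mpr hzD), hi]
    obtain ⟨a', ha'⟩ := ih hm hQ hQi
    obtain ⟨a, rfl⟩ := hfs a'
    have haz : a ^ 2 ^ (m - 1) ∈ Z := (QuotientGroup.eq_one_iff _).mp (by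
      change f (a ^ 2 ^ (m - 1)) = 1
      rw [map_pow, ← ha', pow_orderOf_eq_one])
    by_cases ha1 : a ^ 2 ^ (m - 1) = 1
    swap
    · refine ⟨a, ?_⟩
      have hd : orderOf a ∣ 2 ^ m := by
        rw [orderOf_dvd_iff_pow_eq_one, show 2 ^ m = 2 ^ (m - 1) * 2 by rw [← pow_succ]; congr 1; omega, pow_mul,
          ← orderOf_dvd_iff_pow_eq_one]
        exact (Subgroup.orderOf_dvd_natCard Z haz).trans hZc.dvd
      obtain ⟨i, hi', ho⟩ := (Nat.dvd_prime_pow Nat.prime_two).1 hd
      rcases (show i ≤ m - 1 ∨ i = m by omega) with h' | rfl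
      · exact absurd (orderOf_dvd_iff_pow_eq_one.mp (ho ▸ pow_dvd_pow 2 h')) ha1
      · rw [ho, Nat.add_sub_cancel]
    exfalso
    have hao : orderOf a = 2 ^ (m - 1) :=
      Nat.dvd_antisymm (orderOf_dvd_iff_pow_eq_one.mpr ha1) (ha' ▸ orderOf_map_dvd f a)
    set A' := Subgroup.zpowers (f a) with hA'
    have hA'i : A'.index = 2 := by
      have h := A'.card_mul_index
      rw [hA', Nat.card_zpowers, ha', hQ, show 2 ^ m = 2 ^ (m - 1) * 2 by rw [← pow_succ]; congr 1; omega] at h
      exact Nat.eq_of_mul_eq_mul_left (by positivity) h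
    set C := A'.comap f with hC
    have hCi : C.index = 2 := by rw [hC, Subgroup.index_comap_of_surjective _ hfs, hA'i]
    have hCdec : ∀ c ∈ C, ∃ i j : ℤ, c = a ^ i * z ^ j := by
      intro c hc
      obtain ⟨i, hi'⟩ := Subgroup.mem_zpowers_iff.mp (Subgroup.mem_comap.mp hc)
      have hd : (a ^ i)⁻¹ * c ∈ Z := QuotientGroup.eq.mp (show f (a ^ i) = f c by rw [map_zpow, hi'])
      obtain ⟨j, hj⟩ := Subgroup.mem_zpowers_iff.mp hd
      exact ⟨i, j, by rw [hj, mul_inv_cancel_left]⟩
    haveI : C.Normal := Subgroup.normal_of_index_eq_minFac_card (by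
      rw [hCi, hX, Nat.pow_minFac (by omega), Nat.prime_two.minFac_eq])
    obtain ⟨b, hb⟩ : ∃ b, b ∉ C := by
      by_contra h
      push Not at h
      rw [show C = ⊤ from eq_top_iff.mpr fun g _ => h g, Subgroup.index_top] at hCi
      omega
    obtain ⟨r, e, hre⟩ := hCdec (b * a * b⁻¹)
      (Subgroup.Normal.conj_mem inferInstance a (Subgroup.mem_zpowers (f a)) b)
    have hzc : ∀ g : X, Commute g z := fun g => Subgroup.mem_center_iff.mp hzZ g
    have hz2' : ∀ i : ℤ, z ^ (2 * i) = 1 := fun i => by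
      rw [zpow_mul, show z ^ (2 : ℤ) = 1 by rw [show (2 : ℤ) = ((2 : ℕ) : ℤ) from rfl, zpow_natCast, ← hz2, pow_orderOf_eq_one], one_zpow]
    have hodd : Odd r := by
      by_contra hev
      rw [Int.not_odd_iff_even] at hev
      obtain ⟨r', rfl⟩ := hev
      have h1 : a ^ 2 ^ (m - 2) = 1 := by
        have h2 : (b * a * b⁻¹) ^ 2 ^ (m - 2) = 1 := by
          rw [hre, ((hzc (a ^ (r' + r'))).zpow_right e).mul_pow, ← zpow_natCast, ← zpow_mul, ← zpow_natCast, ← zpow_mul]
          have e1 : a ^ ((r' + r') * ((2 ^ (m - 2) : ℕ) : ℤ)) = 1 := by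
            rw [show (r' + r') * ((2 ^ (m - 2) : ℕ) : ℤ) = ((2 ^ (m - 1) : ℕ) : ℤ) * r' by
              rw [show m - 1 = m - 2 + 1 by omega, pow_succ]; push_cast; ring, zpow_mul, zpow_natCast, ha1, one_zpow]
          have e2 : z ^ (e * ((2 ^ (m - 2) : ℕ) : ℤ)) = 1 := by
            rw [show e * ((2 ^ (m - 2) : ℕ) : ℤ) = 2 * (e * 2 ^ (m - 3)) by
              rw [show m - 2 = m - 3 + 1 by omega, pow_succ]; push_cast; ring, hz2']
          rw [e1, e2, one_mul]
        rw [conj_pow] at h2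
        simpa using conj_eq_one_iff.mp h2
      have := Nat.le_of_dvd (by positivity) (hao ▸ orderOf_dvd_iff_pow_eq_one.mpr h1)
      have h3 : 2 ^ (m - 2) < 2 ^ (m - 1) := Nat.pow_lt_pow_right (by norm_num) (by omega)
      omega
    obtain ⟨r', rfl⟩ := hodd
    set s := a ^ (2 * r') * z ^ e with hs
    set S := Subgroup.zpowers s with hS
    have hsa : b * a * b⁻¹ = s * a := by
      rw [hre, hs, zpow_add, zpow_one, mul_assoc, mul_assoc, ((hzc a).zpow_right e).eq]
    have hsC : s ∈ C := by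
      refine C.mul_mem (C.zpow_mem (Subgroup.mem_zpowers (f a)) _) (C.zpow_mem ?_ _)
      show f z ∈ A'
      rw [show f z = 1 from (QuotientGroup.eq_one_iff z).mpr (Subgroup.mem_zpowers z)]
      exact A'.one_mem
    have hCcomm : ∀ c ∈ C, ∀ d ∈ C, c * d = d * c := by
      intro c hc d hd
      obtain ⟨i, j, rfl⟩ := hCdec c hc
      obtain ⟨k, l, rfl⟩ := hCdec d hd
      exact (((Commute.refl a).zpow_zpow i k).mul_right ((hzc _).zpow_right l)).mul_left
        ((((hzc _).symm).zpow_left j).mul_right (((hzc _).symm).zpow_left j)) |>.eq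
    have hbs : b * s * b⁻¹ = s ^ (2 * r' + 1) := by
      rw [hs, show b * (a ^ (2 * r') * z ^ e) * b⁻¹ = (b * a ^ (2 * r') * b⁻¹) * (b * z ^ e * b⁻¹) by group,
        ← conj_zpow, hre, ((hzc b).zpow_right e).eq, mul_inv_cancel_right,
        ((hzc (a ^ (2 * r' + 1))).zpow_right e).mul_zpow, ← zpow_mul, ← zpow_mul,
        show e * (2 * r') = 2 * (e * r') by ring, hz2', mul_one,
        ((hzc (a ^ (2 * r'))).zpow_right e).mul_zpow, ← zpow_mul, ← zpow_mul,
        show e * (2 * r' + 1) = 2 * (e * r') + e by ring, zpow_add, hz2', one_mul, mul_comm (2 * r' + 1) (2 * r')]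
    have hdec : ∀ g : X, g ∈ C ∨ ∃ c ∈ C, g = c * b := fun g => by
      by_cases hg : g ∈ C
      · exact Or.inl hg
      · refine Or.inr ⟨g * b⁻¹, ?_, by group⟩
        rw [Subgroup.mul_mem_iff_of_index_two hCi]
        simp [hg, hb]
    haveI : S.Normal := by
      rw [← Subgroup.normalizer_eq_top_iff, eq_top_iff]
      intro g _
      have hCN : C ≤ Subgroup.normalizer (S : Set X) := fun c hc =>
        Subgroup.centralizer_le_normalizer _ (Subgroup.mem_centralizer_iff.mpr fun w hw => by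
          obtain ⟨i, rfl⟩ := Subgroup.mem_zpowers_iff.mp hw
          exact hCcomm _ (C.zpow_mem hsC i) c hc)
      have hbN : b ∈ Subgroup.normalizer (S : Set X) := Subgroup.mem_normalizer_fintype fun w hw => by
        obtain ⟨i, rfl⟩ := Subgroup.mem_zpowers_iff.mp hw
        rw [← conj_zpow, hbs]
        exact S.zpow_mem (Subgroup.zpow_mem_zpowers s _) i
      rcases hdec g with h | ⟨c, hc, rfl⟩
      · exact hCN h
      · exact Subgroup.mul_mem _ (hCN hc) hbN
    have hle : commutator X ≤ S := by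
      set π := QuotientGroup.mk' S
      have hba : Commute (π b) (π a) := by
        have h1 : π (b * a * b⁻¹) = π a := by
          rw [hsa, map_mul, show π s = 1 from (QuotientGroup.eq_one_iff s).mpr (Subgroup.mem_zpowers s), one_mul]
        rw [map_mul, map_mul, map_inv] at h1
        exact mul_inv_eq_iff_eq_mul.mp h1
      have hbC : ∀ c ∈ C, Commute (π b) (π c) := by
        intro c hc
        obtain ⟨i, j, rfl⟩ := hCdec c hc
        rw [map_mul, map_zpow, map_zpow]
        exact (hba.zpow_right i).mul_right (((hzc b).map π).zpow_right j)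
      rw [commutator_def, Subgroup.commutator_le]
      intro g _ h _
      refine (QuotientGroup.eq_one_iff _).mp ?_
      change π ⁅g, h⁆ = 1
      rw [map_commutatorElement, commutatorElement_eq_one_iff_mul_comm]
      have hCC : ∀ c ∈ C, ∀ d ∈ C, Commute (π c) (π d) := fun c hc d hd => by
        rw [Commute, SemiconjBy, ← map_mul, ← map_mul, hCcomm c hc d hd]
      rcases hdec g with hg | ⟨c, hc, rfl⟩ <;> rcases hdec h with hh | ⟨d, hd, rfl⟩
      · exact (hCC g hg h hh).eq
      · rw [map_mul]; exact ((hCC g hg d hd).mul_right (hbC g hg).symm).eq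
      · rw [map_mul]; exact ((hCC c hc h hh).mul_left (hbC h hh)).eq
      · rw [map_mul, map_mul]
        exact (((hCC c hc d hd).mul_right (hbC c hc).symm).mul_left ((hbC d hd).mul_right (Commute.refl _))).eq
    have hso : s ^ 2 ^ (m - 2) = 1 := by
      rw [hs, ((hzc _).zpow_right e).mul_pow, ← zpow_natCast, ← zpow_mul, ← zpow_natCast, ← zpow_mul]
      rw [show 2 * r' * ((2 ^ (m - 2) : ℕ) : ℤ) = ((2 ^ (m - 1) : ℕ) : ℤ) * r' by
        rw [show m - 1 = m - 2 + 1 by omega, pow_succ]; push_cast; ring, zpow_mul, zpow_natCast, ha1, one_zpow,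
        show e * ((2 ^ (m - 2) : ℕ) : ℤ) = 2 * (e * 2 ^ (m - 3)) by
        rw [show m - 2 = m - 3 + 1 by omega, pow_succ]; push_cast; ring, hz2', one_mul]
    have h1 : Nat.card (commutator X) ≤ 2 ^ (m - 2) := by
      refine (Subgroup.card_le_of_le hle).trans ?_
      rw [hS, Nat.card_zpowers]
      exact Nat.le_of_dvd (by positivity) (orderOf_dvd_iff_pow_eq_one.mpr hso)
    have h2 := (commutator X).card_mul_index
    rw [hi, hX, show m + 1 = m - 1 + 2 by omega, pow_add] at h2
    have h3 : 2 ^ (m - 2) < 2 ^ (m - 1) := Nat.pow_lt_pow_right (by norm_num) (by omega)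
    omega

/-- The three types. -/
theorem struct (n : ℕ) (hn : 3 ≤ n) (hG : Nat.card G = 2 ^ n) (hi : (commutator G).index = 4) :
    ∃ a b : G, orderOf a = 2 ^ (n - 1) ∧ b ∉ Subgroup.zpowers a ∧ (Subgroup.zpowers a).index = 2 ∧
      ((b ^ 2 = 1 ∧ b * a * b⁻¹ = a⁻¹) ∨ (b ^ 2 = a ^ (2 ^ (n - 2)) ∧ b * a * b⁻¹ = a⁻¹) ∨
        (4 ≤ n ∧ b ^ 2 = 1 ∧ b * a * b⁻¹ = a ^ (2 ^ (n - 2) - 1))) := by
  haveI : Fact (Nat.Prime 2) := ⟨Nat.prime_two⟩
  obtain ⟨a₀, ha₀⟩ := exists_cyclic n hn hG hi
  have hidx : ∀ a : G, orderOf a = 2 ^ (n - 1) → (Subgroup.zpowers a).index = 2 := fun a ha => by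
    have h := (Subgroup.zpowers a).card_mul_index
    rw [Nat.card_zpowers, ha, hG, show 2 ^ n = 2 ^ (n - 1) * 2 by rw [← pow_succ]; congr 1; omega] at h
    exact Nat.eq_of_mul_eq_mul_left (by positivity) h
  obtain ⟨a, b, ha, hb, h | h | ⟨h4, hb2, hba⟩ | h⟩ := CfsgLib.PLocalBasics.two_case n hn hG
    (Subgroup.zpowers a₀) inferInstance (hidx a₀ ha₀) (nonabelian_of_index hn hG hi)
  · exact ⟨a, b, ha, hb, hidx a ha, Or.inl h⟩
  · exact ⟨a, b, ha, hb, hidx a ha, Or.inr (Or.inl h)⟩
  · exfalso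
    set t := a ^ 2 ^ (n - 2) with ht
    have hta : Commute t a := (Commute.refl a).pow_left _
    have htb : Commute b t := by
      have h1 : b * t * b⁻¹ = t := by
        rw [ht, ← conj_pow, hba, ← pow_mul, add_mul, one_mul, pow_add, ← pow_add,
          show 2 ^ (n - 2) * 2 ^ (n - 2) = 2 ^ (n - 1) * 2 ^ (n - 3) by
            rw [← pow_add, ← pow_add]; congr 1; omega, pow_add, pow_mul, ← ha, pow_orderOf_eq_one, one_pow, mul_one]
      exact mul_inv_eq_iff_eq_mul.mp h1
    haveI : (Subgroup.zpowers t).Normal := ⟨fun w hw g => by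
      obtain ⟨i, rfl⟩ := Subgroup.mem_zpowers_iff.mp hw
      rw [← conj_zpow]
      refine Subgroup.zpow_mem _ ?_ i
      have hc : Commute g t := by
        by_cases hg : g ∈ Subgroup.zpowers a
        · obtain ⟨j, rfl⟩ := Subgroup.mem_zpowers_iff.mp hg
          exact (hta.zpow_right j).symm
        · have hgb : g * b⁻¹ ∈ Subgroup.zpowers a := by
            rw [Subgroup.mul_mem_iff_of_index_two (hidx a ha)]
            simp [hg, hb]
          obtain ⟨j, hj⟩ := Subgroup.mem_zpowers_iff.mp hgb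
          rw [show g = a ^ j * b by rw [hj]; group]
          exact (hta.zpow_right j).symm.mul_left htb
      rw [hc.eq, mul_inv_cancel_right]
      exact Subgroup.mem_zpowers t⟩
    set π := QuotientGroup.mk' (Subgroup.zpowers t)
    have hab : Commute (π b) (π a) := by
      have h1 : π (b * a * b⁻¹) = π a := by
        rw [hba, pow_add, pow_one, map_mul, show π (a ^ 2 ^ (n - 2)) = 1 from
          (QuotientGroup.eq_one_iff _).mpr (Subgroup.mem_zpowers t), mul_one]
      rw [map_mul, map_mul, map_inv] at h1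
      exact mul_inv_eq_iff_eq_mul.mp h1
    have hle : commutator G ≤ Subgroup.zpowers t := by
      rw [commutator_def, Subgroup.commutator_le]
      intro g _ h _
      refine (QuotientGroup.eq_one_iff _).mp ?_
      change π ⁅g, h⁆ = 1
      rw [map_commutatorElement, commutatorElement_eq_one_iff_mul_comm]
      have hd : ∀ g : G, ∃ (i : ℤ) (j : ℕ), g = a ^ i * b ^ j := fun g => by
        by_cases hg : g ∈ Subgroup.zpowers a
        · obtain ⟨i, rfl⟩ := Subgroup.mem_zpowers_iff.mp hg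
          exact ⟨i, 0, by simp⟩
        · have hgb : g * b⁻¹ ∈ Subgroup.zpowers a := by
            rw [Subgroup.mul_mem_iff_of_index_two (hidx a ha)]
            simp [hg, hb]
          obtain ⟨j, hj⟩ := Subgroup.mem_zpowers_iff.mp hgb
          exact ⟨j, 1, by rw [hj, pow_one]; group⟩
      obtain ⟨i, k, rfl⟩ := hd g
      obtain ⟨j, l, rfl⟩ := hd h
      simp only [map_mul, map_zpow, map_pow]
      exact ((((Commute.refl (π a)).zpow_zpow i j).mul_right ((hab.symm.zpow_left i).pow_right l)).mul_left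
        (((hab.pow_left k).zpow_right j).mul_right ((Commute.refl (π b)).pow_pow k l))).eq
    have h1 := Subgroup.card_le_of_le hle
    have h2 : Nat.card (Subgroup.zpowers t) ≤ 2 := by
      rw [Nat.card_zpowers]
      refine Nat.le_of_dvd (by norm_num) ?_
      rw [orderOf_dvd_iff_pow_eq_one, ht, ← pow_mul, ← pow_succ, show n - 2 + 1 = n - 1 by omega, ← ha,
        pow_orderOf_eq_one]
    have h3 := (commutator G).card_mul_index
    rw [hi, hG] at h3
    have : 2 ^ 4 ≤ 2 ^ n := Nat.pow_le_pow_right (by norm_num) h4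
    omega
  · exact ⟨a, b, ha, hb, hidx a ha, Or.inr (Or.inr h)⟩

/-- `b` centralises only `a ^ 2 ^ (n - 2)` in `⟨a⟩`; consequences. -/
theorem maximal_class_props (n : ℕ) (hn : 3 ≤ n) (hG : Nat.card G = 2 ^ n) (hi : (commutator G).index = 4) :
    Group.nilpotencyClass G = n - 1 ∧ Nonempty (G ⧸ Subgroup.center G ≃* DihedralGroup (2 ^ (n - 2))) := by
  haveI : Fact (Nat.Prime 2) := ⟨Nat.prime_two⟩
  obtain ⟨a, b, ha, hb, hai, htype⟩ := struct n hn hG hi
  set A := Subgroup.zpowers a with hA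
  haveI : A.Normal := Subgroup.normal_of_index_eq_minFac_card (by
    rw [hai, hG, Nat.pow_minFac (by omega), Nat.prime_two.minFac_eq])
  set t := a ^ 2 ^ (n - 2) with ht
  have hto : orderOf t = 2 := by
    rw [ht, orderOf_pow' a (by positivity), ha, Nat.gcd_eq_right (pow_dvd_pow 2 (by omega)), Nat.pow_div (by omega) two_pos,
      show n - 1 - (n - 2) = 1 by omega, pow_one]
  have hr : ∃ r : ℤ, b * a * b⁻¹ = a ^ r ∧ ∀ i : ℤ, a ^ (i * (r - 1)) = 1 → (2 : ℤ) ^ (n - 2) ∣ i := by
    have hzero : ∀ z : ℤ, a ^ z = 1 ↔ (2 : ℤ) ^ (n - 1) ∣ z := fun z => by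
      rw [← orderOf_dvd_iff_zpow_eq_one, ha]; norm_num
    have hsucc : (2 : ℤ) ^ (n - 1) = 2 ^ (n - 2) * 2 := by rw [← pow_succ]; congr 1; omega
    rcases htype with ⟨-, h⟩ | ⟨-, h⟩ | ⟨h4, -, h⟩
    · refine ⟨-1, by rw [h, zpow_neg_one], fun i hi' => ?_⟩
      rw [hzero, hsucc, show i * (-1 - 1) = (-i) * 2 by ring] at hi'
      exact dvd_neg.mp (Int.dvd_of_mul_dvd_mul_right (by norm_num) hi')
    · refine ⟨-1, by rw [h, zpow_neg_one], fun i hi' => ?_⟩
      rw [hzero, hsucc, show i * (-1 - 1) = (-i) * 2 by ring] at hi'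
      exact dvd_neg.mp (Int.dvd_of_mul_dvd_mul_right (by norm_num) hi')
    · refine ⟨((2 ^ (n - 2) - 1 : ℕ) : ℤ), by rw [h, zpow_natCast], fun i hi' => ?_⟩
      rw [hzero, hsucc, Nat.cast_sub Nat.one_le_two_pow] at hi'
      push_cast at hi'
      rw [show i * ((2 : ℤ) ^ (n - 2) - 1 - 1) = (i * (2 ^ (n - 3) - 1)) * 2 by
        rw [show n - 2 = n - 3 + 1 by omega, pow_succ]; ring] at hi'
      have h1 := Int.dvd_of_mul_dvd_mul_right (by norm_num) hi'
      refine (Int.prime_two.pow_dvd_of_dvd_mul_right _ ?_ h1)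
      intro hd
      have h2 : (2 : ℤ) ∣ 2 ^ (n - 3) := dvd_pow_self 2 (by omega)
      have := dvd_sub h2 hd
      norm_num at this
  obtain ⟨r, hba, hrfix⟩ := hr
  have hfix : ∀ x ∈ A, b * x = x * b → x ∈ Subgroup.zpowers t := by
    intro x hx hc
    obtain ⟨i, rfl⟩ := Subgroup.mem_zpowers_iff.mp hx
    have h1 : a ^ (r * i) = a ^ i := by
      rw [zpow_mul, ← hba, conj_zpow, hc, mul_inv_cancel_right]
    obtain ⟨j, hj⟩ := hrfix i (by
      rw [show i * (r - 1) = r * i - i by ring, zpow_sub, h1, mul_inv_cancel])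
    refine ⟨j, ?_⟩
    show t ^ j = a ^ i
    rw [ht, ← zpow_natCast, ← zpow_mul, hj]
    norm_num
  set B := Subgroup.centralizer ({b} : Set G) with hB
  have hbB : b ∈ B := Subgroup.mem_centralizer_singleton_iff.mpr rfl
  have hinf : A ⊓ B ≤ Subgroup.zpowers t := fun x hx =>
    hfix x hx.1 (Subgroup.mem_centralizer_singleton_iff.mp hx.2).symm
  have htop : A ⊔ B = ⊤ := by
    rw [eq_top_iff]
    intro g _
    by_cases hg : g ∈ A
    · exact Subgroup.mem_sup_left hg
    · have hgb : g * b⁻¹ ∈ A := by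
        rw [Subgroup.mul_mem_iff_of_index_two hai]
        simp [hg, hb]
      simpa using Subgroup.mul_mem_sup hgb hbB
  have hcard := card_sup_mul_card_inf A B
  rw [htop, Subgroup.card_top, hG, hA, Nat.card_zpowers, ha,
    show 2 ^ n = 2 ^ (n - 1) * 2 by rw [← pow_succ]; congr 1; omega, mul_assoc] at hcard
  have hBi : 2 * Nat.card ↥(Subgroup.zpowers a ⊓ B) = Nat.card B := Nat.eq_of_mul_eq_mul_left (by positivity) hcard
  have hle2 : Nat.card ↥(Subgroup.zpowers a ⊓ B) ≤ 2 := by
    refine (Subgroup.card_le_of_le hinf).trans ?_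
    rw [Nat.card_zpowers, hto]
  have hcen : t ∈ Subgroup.center G := by
    rw [Subgroup.mem_center_iff]
    intro g
    have htb : b * t = t * b := by
      have h1 : b * t * b⁻¹ = t := by
        have h2 : b * t * b⁻¹ ∈ Subgroup.zpowers t := by
          rw [ht, ← conj_pow, hba, ← zpow_natCast (a ^ r), ← zpow_mul, mul_comm, zpow_mul, zpow_natCast]
          exact Subgroup.zpow_mem_zpowers _ _
        obtain ⟨i, hi'⟩ := Subgroup.mem_zpowers_iff.mp h2
        rcases Int.even_or_odd i with ⟨k, rfl⟩ | ⟨k, rfl⟩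
        · exfalso
          have h3 : t ^ (k + k) = 1 := by
            rw [← two_mul, zpow_mul, show t ^ (2 : ℤ) = 1 by
              rw [show (2 : ℤ) = ((2 : ℕ) : ℤ) from rfl, zpow_natCast, ← hto, pow_orderOf_eq_one], one_zpow]
          rw [h3] at hi'
          have h4 : t = 1 := conj_eq_one_iff.mp hi'.symm
          rw [h4, orderOf_one] at hto
          omega
        · rw [← hi', zpow_add, zpow_mul, show t ^ (2 : ℤ) = 1 by
              rw [show (2 : ℤ) = ((2 : ℕ) : ℤ) from rfl, zpow_natCast, ← hto, pow_orderOf_eq_one], one_zpow,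
            one_mul, zpow_one]
      exact mul_inv_eq_iff_eq_mul.mp h1
    by_cases hg : g ∈ A
    · obtain ⟨j, rfl⟩ := Subgroup.mem_zpowers_iff.mp hg
      exact (((Commute.refl a).pow_left _).zpow_right j).symm.eq
    · have hgb : g * b⁻¹ ∈ A := by
        rw [Subgroup.mul_mem_iff_of_index_two hai]
        simp [hg, hb]
      obtain ⟨j, hj⟩ := Subgroup.mem_zpowers_iff.mp hgb
      rw [show g = a ^ j * b by rw [hj]; group]
      exact ((((Commute.refl a).pow_left _).zpow_right j).symm.mul_left (show Commute b t from htb)).eq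
  have hB4 : Nat.card B = 2 ^ 2 := by
    have h1 : 2 ∣ Nat.card ↥(Subgroup.zpowers a ⊓ B) := hto ▸ Subgroup.orderOf_dvd_natCard _
      (show t ∈ Subgroup.zpowers a ⊓ B from ⟨Subgroup.pow_mem _ (Subgroup.mem_zpowers a) _,
        Subgroup.mem_centralizer_singleton_iff.mpr (Subgroup.mem_center_iff.mp hcen b).symm⟩)
    have := Nat.le_of_dvd Nat.card_pos h1
    omega
  have hCB : Subgroup.centralizer (B : Set G) ≤ B := fun x hx =>
    Subgroup.mem_centralizer_singleton_iff.mpr (Subgroup.mem_centralizer_iff.mp hx b hbB).symm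
  refine ⟨Cfsg.Agent.S4143.maximal_class_of_self_centralizing n G B hG hB4 hCB, ?_⟩
  have hcenter : Subgroup.center G = Subgroup.zpowers t := by
    refine le_antisymm (fun x hx => ?_) (Subgroup.zpowers_le.mpr hcen)
    by_cases hxA : x ∈ A
    · exact hfix x hxA (Subgroup.mem_center_iff.mp hx b)
    · exfalso
      have hgb : x * b⁻¹ ∈ A := by
        rw [Subgroup.mul_mem_iff_of_index_two hai]
        simp [hxA, hb]
      obtain ⟨j, hj⟩ := Subgroup.mem_zpowers_iff.mp hgb
      have h1 : b * a = a * b := by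
        have h2 := Subgroup.mem_center_iff.mp hx a
        rw [show x = a ^ j * b by rw [hj]; group] at h2
        exact mul_left_cancel (a := a ^ j) (by rw [← mul_assoc, ← mul_assoc, ← h2, ← mul_assoc, ← (Commute.self_zpow a j).eq])
      obtain ⟨i, hi'⟩ := Subgroup.mem_zpowers_iff.mp (hfix a (Subgroup.mem_zpowers a) h1)
      have h5 : orderOf a ∣ 2 := hi' ▸ hto ▸ (Subgroup.orderOf_dvd_natCard _ (Subgroup.zpow_mem_zpowers t i)).trans (dvd_of_eq (Nat.card_zpowers t))
      have := Nat.le_of_dvd (by norm_num) h5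
      have : 2 ^ 2 ≤ 2 ^ (n - 1) := Nat.pow_le_pow_right (by norm_num) (by omega)
      omega
  set π := QuotientGroup.mk' (Subgroup.center G) with hπ
  have hao : orderOf (π a) = 2 ^ (n - 2) := by
    refine Nat.dvd_antisymm ?_ ?_
    · rw [orderOf_dvd_iff_pow_eq_one, ← map_pow]
      exact (QuotientGroup.eq_one_iff _).mpr hcen
    · have h1 : a ^ orderOf (π a) ∈ Subgroup.center G := (QuotientGroup.eq_one_iff _).mp (by
        change π (a ^ orderOf (π a)) = 1
        rw [map_pow, pow_orderOf_eq_one])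
      replace h1 := hcenter.le h1
      have h2 : orderOf (a ^ orderOf (π a)) ∣ 2 :=
        hto ▸ (Subgroup.orderOf_dvd_natCard _ h1).trans (dvd_of_eq (Nat.card_zpowers t))
      rw [orderOf_dvd_iff_pow_eq_one, ← pow_mul, ← orderOf_dvd_iff_pow_eq_one, ha,
        show 2 ^ (n - 1) = 2 ^ (n - 2) * 2 by rw [← pow_succ]; congr 1; omega] at h2
      exact Nat.dvd_of_mul_dvd_mul_right (by norm_num) h2
  refine CfsgLib.H29.Dickson.iso_dihedral (π a) hao ?_ fun g hg => ?_
  · have h := (Subgroup.center G).card_eq_card_quotient_mul_card_subgroup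
    rw [hG, show Nat.card (Subgroup.center G) = 2 by rw [hcenter, Nat.card_zpowers, hto],
      show 2 ^ n = 2 ^ (n - 2) * 2 * 2 by rw [← pow_succ, ← pow_succ]; congr 1; omega] at h
    have h' := Nat.eq_of_mul_eq_mul_right (by norm_num) h
    omega
  · obtain ⟨x, rfl⟩ := QuotientGroup.mk'_surjective (Subgroup.center G) g
    have hxA : x ∉ A := fun hx => by
      obtain ⟨i, rfl⟩ := Subgroup.mem_zpowers_iff.mp hx
      exact hg (by rw [map_zpow]; exact Subgroup.zpow_mem_zpowers _ _)
    have hgb : x * b⁻¹ ∈ A := by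
      rw [Subgroup.mul_mem_iff_of_index_two hai]
      simp [hxA, hb]
    obtain ⟨j, hj⟩ := Subgroup.mem_zpowers_iff.mp hgb
    have hcase : π b * π b = 1 ∧ π b * π a * (π b)⁻¹ = (π a)⁻¹ := by
      have ht1 : π t = 1 := (QuotientGroup.eq_one_iff t).mpr hcen
      rw [← map_mul, ← map_mul, ← map_inv, ← map_mul, ← map_inv, ← pow_two]
      rcases htype with ⟨h1, h2⟩ | ⟨h1, h2⟩ | ⟨-, h1, h2⟩
      · rw [h1, h2, map_one]; exact ⟨rfl, rfl⟩
      · rw [h1, h2]; exact ⟨ht1, rfl⟩
      · rw [h1, h2, map_one]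
        refine ⟨rfl, eq_inv_of_mul_eq_one_left ?_ |>.trans (map_inv π a).symm⟩
        rw [← map_mul, ← pow_succ, Nat.sub_add_cancel Nat.one_le_two_pow]
        exact ht1
    rw [show x = a ^ j * b by rw [hj]; group, map_mul, map_zpow]
    calc π a ^ j * π b * (π a ^ j * π b) = π a ^ j * (π b * π a ^ j * (π b)⁻¹) * (π b * π b) := by group
      _ = 1 := by rw [← conj_zpow, hcase.2, hcase.1, inv_zpow, mul_inv_cancel, mul_one]

theorem index_commutator_of_class (n : ℕ) (hn : 3 ≤ n) (hG : Nat.card G = 2 ^ n)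
    (hc : Group.nilpotencyClass G = n - 1) : (commutator G).index = 4 ∧ ∀ g : G, g ^ 2 ∈ commutator G := by
  haveI : Fact (Nat.Prime 2) := ⟨Nat.prime_two⟩
  have hpg : IsPGroup 2 G := IsPGroup.of_card hG
  haveI := hpg.isNilpotent
  have hD : (⊤ : Subgroup G).lowerCentralSeries 1 = commutator G := by
    rw [Subgroup.lowerCentralSeries_succ, Subgroup.lowerCentralSeries_zero, commutator_def]
  have hne : (⊤ : Subgroup G).lowerCentralSeries 1 ≠ ⊥ := fun e => by
    have := (Subgroup.lowerCentralSeries_eq_bot_iff_nilpotencyClass_le (G := G)).1 e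
    omega
  have hncy := fun h => CfsgLib.PLocalBasics.not_isCyclic_quotient hpg hne h
  have hidx : (commutator G).index = 4 := by
    obtain ⟨k, hk⟩ := hpg.index (commutator G)
    rcases (show k ≤ 1 ∨ k = 2 ∨ 3 ≤ k by omega) with h | rfl | h
    · exfalso
      refine hncy (isCyclic_of_card_dvd_prime (p := 2) ?_)
      rw [hD, ← Subgroup.index_eq_card, hk]
      exact (pow_dvd_pow 2 h).trans (by norm_num)
    · rw [hk]; norm_num
    · exfalso
      have key : ∀ i, 1 ≤ i → (⊤ : Subgroup G).lowerCentralSeries i = ⊥ ∨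
          Nat.card ↥((⊤ : Subgroup G).lowerCentralSeries i) * 2 ^ (k + (i - 1)) ≤ 2 ^ n := by
        intro i hi'
        induction i, hi' using Nat.le_induction with
        | base =>
          refine Or.inr (le_of_eq ?_)
          rw [Nat.sub_self, add_zero, hD, ← hk, Subgroup.card_mul_index, hG]
        | succ i hi' ih =>
          rcases ih with h' | h'
          · exact Or.inl (le_bot_iff.mp (h' ▸ CfsgLib.PLocalBasics.lcs_antitone' i))
          · by_cases hb : (⊤ : Subgroup G).lowerCentralSeries i = ⊥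
            · exact Or.inl (le_bot_iff.mp (hb ▸ CfsgLib.PLocalBasics.lcs_antitone' i))
            refine Or.inr (le_trans ?_ h')
            rw [show k + (i + 1 - 1) = k + (i - 1) + 1 by omega, pow_succ', ← mul_assoc]
            refine Nat.mul_le_mul_right _ ?_
            exact Cfsg.Agent.S4143.card_mul_le_of_lt hpg (CfsgLib.PLocalBasics.lcs_antitone' i)
              (CfsgLib.PGroupSmall.lcs_succ_ne hb)
      rcases key (n - 2) (by omega) with h' | h'
      · have := (Subgroup.lowerCentralSeries_eq_bot_iff_nilpotencyClass_le (G := G)).1 h'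
        omega
      · have hne2 : (⊤ : Subgroup G).lowerCentralSeries (n - 2) ≠ ⊥ := fun e => by
          have := (Subgroup.lowerCentralSeries_eq_bot_iff_nilpotencyClass_le (G := G)).1 e
          omega
        have h2 : 2 ≤ Nat.card ↥((⊤ : Subgroup G).lowerCentralSeries (n - 2)) :=
          (Subgroup.one_lt_card_iff_ne_bot _).2 hne2
        have h3 : 2 * 2 ^ n ≤ 2 * 2 ^ (k + (n - 2 - 1)) :=
          Nat.mul_le_mul_left 2 (Nat.pow_le_pow_right (by norm_num) (by omega))
        have h4 := le_trans (Nat.mul_le_mul_right _ h2) h'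
        have h5 : 0 < 2 ^ n := by positivity
        omega
  refine ⟨hidx, fun g => (QuotientGroup.eq_one_iff _).mp ?_⟩
  change QuotientGroup.mk' (commutator G) (g ^ 2) = 1
  rw [map_pow]
  have hd : orderOf (QuotientGroup.mk' (commutator G) g) ∣ 2 ^ 2 :=
    (orderOf_dvd_natCard _).trans (dvd_of_eq (by rw [← Subgroup.index_eq_card, hidx]; norm_num))
  obtain ⟨i, hi', ho⟩ := (Nat.dvd_prime_pow Nat.prime_two).1 hd
  rcases (show i ≤ 1 ∨ i = 2 by omega) with h | rfl
  · exact orderOf_dvd_iff_pow_eq_one.1 (ho ▸ (pow_dvd_pow 2 h).trans (pow_one 2).dvd)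
  · exfalso
    refine hncy ?_
    haveI : IsCyclic (G ⧸ commutator G) :=
      isCyclic_of_orderOf_eq_card (QuotientGroup.mk' (commutator G) g) (by rw [ho, ← Subgroup.index_eq_card, hidx]; norm_num)
    exact isCyclic_of_surjective _ (QuotientGroup.quotientMulEquivOfEq hD.symm).surjective

theorem isKleinFour_iff_class (n : ℕ) (hn : 3 ≤ n) (hG : Nat.card G = 2 ^ n) :
    Group.nilpotencyClass G = n - 1 ↔ IsKleinFour (G ⧸ commutator G) := by
  constructor
  · intro hc
    obtain ⟨h4, hsq⟩ := index_commutator_of_class n hn hG hc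
    refine ⟨by rw [← Subgroup.index_eq_card, h4], Nat.dvd_antisymm (Monoid.exponent_dvd_of_forall_pow_eq_one fun q => ?_) ?_⟩
    · obtain ⟨g, rfl⟩ := QuotientGroup.mk'_surjective (commutator G) q
      rw [← map_pow]
      exact (QuotientGroup.eq_one_iff _).mpr (hsq g)
    · haveI : Fact (Nat.Prime 2) := ⟨Nat.prime_two⟩
      obtain ⟨x, hx⟩ := exists_prime_orderOf_dvd_card' (G := G ⧸ commutator G) 2
        (by rw [← Subgroup.index_eq_card, h4]; norm_num)
      exact hx ▸ Monoid.order_dvd_exponent x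
  · intro hK
    exact (maximal_class_props n hn hG (by rw [Subgroup.index_eq_card]; exact IsKleinFour.card_four)).1

theorem four_group_abelianization (h2 : IsPGroup 2 G) (hab : Nat.card (Abelianization G) = 4) :
    Nat.card G = 4 ∨
    ((∃ k : ℕ, Nonempty (G ≃* DihedralGroup (2 ^ (k + 2)))) ∨
      (∃ k : ℕ, Nat.card G = 2 ^ (k + 4) ∧ ∃ a b : G, orderOf a = 2 ^ (k + 3) ∧ orderOf b = 2 ∧ b * a * b⁻¹ = a ^ (2 ^ (k + 2) - 1)) ∨
      (∃ k : ℕ, Nonempty (G ≃* QuaternionGroup (2 ^ (k + 1))))) := by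
  haveI : Fact (Nat.Prime 2) := ⟨Nat.prime_two⟩
  have hi : (commutator G).index = 4 := hab
  obtain ⟨n, hn⟩ := IsPGroup.iff_card.mp h2
  have hd : 2 ^ 2 ∣ 2 ^ n := by
    have h := (commutator G).index_dvd_card
    rw [hi, hn] at h
    exact h
  have hn2 := (Nat.pow_dvd_pow_iff_le_right (by norm_num : 1 < 2)).1 hd
  rcases hn2.eq_or_lt with rfl | hlt
  · exact Or.inl hn
  obtain ⟨m, rfl⟩ : ∃ m, n = m + 3 := ⟨n - 3, by omega⟩
  obtain ⟨a, b, ha, hb, hai, ⟨h1, h2'⟩ | ⟨h1, h2'⟩ | ⟨h4, h1, h2'⟩⟩ := struct (m + 3) (by omega) hn hi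
  · simp only [show m + 3 - 1 = m + 2 by omega] at ha
    refine Or.inr (Or.inl ⟨m, CfsgLib.H29.Dickson.iso_dihedral a ha (by rw [hn, ← pow_succ']) fun g hg => ?_⟩)
    have hgb : g * b⁻¹ ∈ Subgroup.zpowers a := by
      rw [Subgroup.mul_mem_iff_of_index_two hai]
      simp [hg, hb]
    obtain ⟨j, hj⟩ := Subgroup.mem_zpowers_iff.mp hgb
    rw [show g = a ^ j * b by rw [hj]; group]
    calc a ^ j * b * (a ^ j * b) = a ^ j * (b * a ^ j * b⁻¹) * b ^ 2 := by rw [pow_two]; group
      _ = 1 := by rw [← conj_zpow, h2', h1, inv_zpow, mul_inv_cancel, mul_one]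
  · simp only [show m + 3 - 1 = m + 2 by omega, show m + 3 - 2 = m + 1 by omega] at ha h1
    refine Or.inr (Or.inr (Or.inr ⟨m, CfsgLib.RankOneP.nonempty_mulEquiv_quaternion (a := a) (y := b)
      (by rw [ha, ← pow_succ']) h2' h1 hb ?_⟩))
    rw [eq_top_iff]
    intro g _
    by_cases hg : g ∈ Subgroup.zpowers a
    · exact Subgroup.mem_sup_left hg
    · have hgb : g * b⁻¹ ∈ Subgroup.zpowers a := by
        rw [Subgroup.mul_mem_iff_of_index_two hai]
        simp [hg, hb]
      simpa using Subgroup.mul_mem_sup hgb (Subgroup.mem_zpowers b)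
  · obtain ⟨k, rfl⟩ : ∃ k, m = k + 1 := ⟨m - 1, by omega⟩
    simp only [show k + 1 + 3 - 1 = k + 3 by omega, show k + 1 + 3 - 2 = k + 2 by omega] at ha h2'
    refine Or.inr (Or.inr (Or.inl ⟨k, by rw [hn], a, b, ha, ?_, h2'⟩))
    refine orderOf_eq_prime h1 fun hb1 => hb ?_
    rw [hb1]; exact Subgroup.one_mem _

end CfsgLib.Hall.Taussky
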