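/-
Minimal non-p-closed groups that are not simple, and the size of an irreducible module of a
cyclic group of prime order.
-/
import Cfsg.Agent.Hall.Basic
import Cfsg.Agent.CoprimeAction.Invariant
import Cfsg.Prelude.Def_LocalStructure
import Cfsg.Prelude.Def_Transfer

set_option autoImplicit false
set_option linter.style.haveILetI false

namespace CfsgLib.Hall

open scoped IsMulCommutative

theorem card_eq_of_generated {R : Type*} [CommRing R] [IsDomain R] [Finite R] {p q : ℕ}
    (hp : p.Prime) (hq : q.Prime) [CharP R q] (hqp : q ≠ p) (x : R) (hx : x ^ p = 1) (hx1 : x ≠ 1)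
    (hgen : ∀ S : Subring R, x ∈ S → S = ⊤) : Nat.card R = q ^ orderOf (q : ZMod p) := by
  classical
  haveI := Fact.mk hp
  haveI := Fact.mk hq
  haveI : Fintype R := Fintype.ofFinite R
  haveI : ExpChar R q := ExpChar.prime hq
  set e := orderOf (q : ZMod p)
  have hqne : (q : ZMod p) ≠ 0 := by
    rw [Ne, ZMod.natCast_eq_zero_iff]
    exact fun h => hqp ((Nat.prime_dvd_prime_iff_eq hp hq).mp h).symm
  have hxo : orderOf x = p := orderOf_eq_prime hx hx1
  have hxe : x ^ q ^ e = x := by
    have hm : q ^ e ≡ 1 [MOD p] := (ZMod.natCast_eq_natCast_iff _ _ _).mp (by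
      rw [Nat.cast_pow, Nat.cast_one]; exact pow_orderOf_eq_one _)
    have hfin : IsOfFinOrder x := orderOf_pos_iff.mp (hxo ▸ hp.pos)
    conv_rhs => rw [← pow_one x]
    exact hfin.pow_eq_pow_iff_modEq.mpr (hxo.symm ▸ hm)
  have htop := hgen ((iterateFrobenius R q e).eqLocus (RingHom.id R))
    (by rw [RingHom.mem_eqLocus, iterateFrobenius_def]; exact hxe)
  have hfix : ∀ r : R, r ^ q ^ e = r := fun r => by
    have h := htop ▸ Subring.mem_top r
    rw [RingHom.mem_eqLocus, iterateFrobenius_def] at h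
    exact h
  have he0 : e ≠ 0 := (orderOf_pos_iff.mpr (isOfFinOrder_iff_pow_eq_one.mpr
    ⟨p - 1, Nat.sub_pos_of_lt hp.one_lt, ZMod.pow_card_sub_one_eq_one hqne⟩)).ne'
  have h1q : 1 < q ^ e := Nat.one_lt_pow he0 hq.one_lt
  have hne : (Polynomial.X ^ q ^ e - Polynomial.X : Polynomial R) ≠ 0 :=
    sub_ne_zero.mpr fun h => by
      have := congrArg Polynomial.natDegree h
      rw [Polynomial.natDegree_X_pow, Polynomial.natDegree_X] at this
      omega
  have hle : Fintype.card R ≤ q ^ e := by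
    have := Polynomial.card_le_degree_of_subset_roots (Z := (Finset.univ : Finset R))
      (p := (Polynomial.X ^ q ^ e - Polynomial.X : Polynomial R)) (fun r _ => by
        rw [Polynomial.mem_roots hne]
        simp [hfix r])
    rw [Finset.card_univ] at this
    refine this.trans ?_
    rw [Polynomial.natDegree_sub_eq_left_of_natDegree_lt (by simp; omega), Polynomial.natDegree_X_pow]
  rw [Nat.card_eq_fintype_card]
  letI := Fintype.fieldOfDomain R
  obtain ⟨⟨k, hk0⟩, -, hk⟩ := FiniteField.card R q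
  change Fintype.card R = q ^ k at hk
  have hx0 : x ≠ 0 := fun h0 => by rw [h0, zero_pow hp.ne_zero] at hx; exact zero_ne_one hx
  have hdvd : p ∣ q ^ k - 1 := by
    rw [← hk, ← hxo]
    exact orderOf_dvd_of_pow_eq_one (FiniteField.pow_card_sub_one_eq_one x hx0)
  have hek : e ∣ k := orderOf_dvd_of_pow_eq_one (by
    have h1 : ((q ^ k : ℕ) : ZMod p) = ((1 : ℕ) : ZMod p) :=
      ((ZMod.natCast_eq_natCast_iff _ _ _).mpr
        ((Nat.modEq_iff_dvd' (Nat.one_le_pow _ _ hq.pos)).mpr hdvd).symm)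
    simpa using h1)
  rw [hk]
  exact le_antisymm (hk ▸ hle) (Nat.pow_le_pow_right hq.pos (Nat.le_of_dvd hk0 hek))

theorem card_eq_of_irreducible_end {A : Type*} [AddCommGroup A] [Finite A] {p q : ℕ}
    (hp : p.Prime) (hq : q.Prime) (hexp : ∀ a : A, q • a = 0) (φ : AddMonoid.End A)
    (hφp : φ ^ p = 1) (hφ1 : φ ≠ 1) (hqp : q ≠ p)
    (hirr : ∀ B : AddSubgroup A, (∀ b ∈ B, φ b ∈ B) → B = ⊥ ∨ B = ⊤) :
    Nat.card A = q ^ orderOf (q : ZMod p) := by
  classical
  set R := Subring.closure ({φ} : Set (AddMonoid.End A)) with hR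
  haveI : IsMulCommutative R := Subring.isMulCommutative_closure (by
    intro x hx y hy; rw [Set.mem_singleton_iff.mp hx, Set.mem_singleton_iff.mp hy])
  letI : CommRing R := { (inferInstance : Ring R) with mul_comm := fun a b => mul_comm' a b }
  haveI : Finite (AddMonoid.End A) := Finite.of_injective _ DFunLike.coe_injective
  haveI : Finite R := Finite.of_injective _ Subtype.val_injective
  obtain ⟨v, hv⟩ : ∃ v : A, v ≠ 0 := by
    by_contra hcon
    push Not at hcon
    exact hφ1 (DFunLike.ext _ _ fun a => (hcon _).trans (hcon a).symm)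
  let Φ : R := ⟨φ, Subring.subset_closure rfl⟩
  -- Schur
  have hker : ∀ r : R, ∀ a : A, a ≠ 0 → (r : AddMonoid.End A) a = 0 → r = 0 := by
    intro r a ha har
    let B : AddSubgroup A :=
      { carrier := {b | (r : AddMonoid.End A) b = 0}
        zero_mem' := map_zero (r : AddMonoid.End A)
        add_mem' := fun {x y} hx hy => show (r : AddMonoid.End A) (x + y) = 0 by
          rw [map_add, (hx : (r : AddMonoid.End A) x = 0), (hy : (r : AddMonoid.End A) y = 0), add_zero]
        neg_mem' := fun {x} hx => show (r : AddMonoid.End A) (-x) = 0 by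
          rw [map_neg, (hx : (r : AddMonoid.End A) x = 0), neg_zero] }
    have hinv : ∀ b ∈ B, φ b ∈ B := fun b hb => by
      have hc : (r : AddMonoid.End A) * φ = φ * r := congrArg Subtype.val (mul_comm r Φ)
      have h1 : (r : AddMonoid.End A) (φ b) = φ ((r : AddMonoid.End A) b) := DFunLike.congr_fun hc b
      exact h1.trans (by rw [(hb : (r : AddMonoid.End A) b = 0)]; exact map_zero φ)
    rcases hirr B hinv with h | h
    · exact absurd ((AddSubgroup.mem_bot).mp (h ▸ (har : a ∈ B))) ha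
    · exact Subtype.ext (DFunLike.ext _ _ fun b => (h ▸ AddSubgroup.mem_top b : b ∈ B))
  haveI : Nontrivial R := ⟨0, 1, fun h => hv
    (DFunLike.congr_fun (congrArg Subtype.val h) v).symm⟩
  haveI : IsDomain R := by
    haveI : NoZeroDivisors R := ⟨fun {r s} hrs => by
      by_contra hne
      push Not at hne
      obtain ⟨a, ha⟩ : ∃ a, (s : AddMonoid.End A) a ≠ 0 := by
        by_contra hcon
        push Not at hcon
        exact hne.2 (Subtype.ext (DFunLike.ext _ _ hcon))
      exact hne.1 (hker r _ ha (DFunLike.congr_fun (congrArg Subtype.val hrs) a))⟩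
    exact NoZeroDivisors.to_isDomain R
  have hq0 : (q : R) = 0 := hker _ v hv (by
    rw [show (((q : R)) : AddMonoid.End A) = (q : AddMonoid.End A) from map_natCast R.subtype q]
    simpa using hexp v)
  haveI : CharP R q := (CharP.charP_iff_prime_eq_zero hq).mpr hq0
  rw [← card_eq_of_generated (R := R) hp hq hqp Φ (Subtype.ext (by simpa using hφp))
    (fun h => hφ1 (congrArg Subtype.val h)) (fun S hS => by
      rw [eq_top_iff]
      rintro ⟨r, hr⟩ -
      have hle : R ≤ S.map R.subtype := Subring.closure_le.mpr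
        (Set.singleton_subset_iff.mpr ⟨Φ, hS, rfl⟩)
      obtain ⟨y, hy, hyr⟩ := hle hr
      exact (Subtype.ext hyr : y = ⟨r, hr⟩) ▸ hy)]
  refine (Nat.card_eq_of_bijective (fun r : R => (r : AddMonoid.End A) v)
    ⟨fun r s h => sub_eq_zero.mp (hker (r - s) v hv (sub_eq_zero.mpr h :
      (r : AddMonoid.End A) v - (s : AddMonoid.End A) v = 0)), fun a => ?_⟩).symm
  let B : AddSubgroup A :=
    { carrier := Set.range fun r : R => (r : AddMonoid.End A) v
      zero_mem' := ⟨0, rfl⟩
      add_mem' := by rintro x y ⟨r, rfl⟩ ⟨s, rfl⟩; exact ⟨r + s, rfl⟩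
      neg_mem' := by rintro x ⟨r, rfl⟩; exact ⟨-r, rfl⟩ }
  rcases hirr B (by rintro b ⟨r, rfl⟩; exact ⟨Φ * r, rfl⟩) with h | h
  · exact absurd ((AddSubgroup.mem_bot).mp (h ▸ (⟨1, rfl⟩ : v ∈ B))) hv
  · exact (h ▸ AddSubgroup.mem_top a : a ∈ B)

/-- An abelian normal subgroup of exponent `q` on which an element of order `p` acts irreducibly
and nontrivially has order `q ^ e`. -/
theorem card_eq_of_irreducible {G : Type*} [Group G] [Finite G] {p q : ℕ} (hp : p.Prime)
    (hq : q.Prime) (hqp : q ≠ p) (N : Subgroup G) [N.Normal] [IsMulCommutative N]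
    (hexp : ∀ a ∈ N, a ^ q = 1) (x : G) (hx : x ^ p = 1)
    (hne : ∃ a ∈ N, x * a ≠ a * x)
    (hirr : ∀ B : Subgroup G, B ≤ N → (∀ b ∈ B, x * b * x⁻¹ ∈ B) → B = ⊥ ∨ B = N) :
    Nat.card N = q ^ orderOf (q : ZMod p) := by
  let c : N →* N :=
    { toFun := fun u => ⟨x * u * x⁻¹, Subgroup.Normal.conj_mem inferInstance _ u.2 x⟩
      map_one' := Subtype.ext (by simp)
      map_mul' := fun u w => Subtype.ext (by simp [mul_assoc]) }
  let φ : AddMonoid.End (Additive N) := MonoidHom.toAdditive c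
  have hiter : ∀ (n : ℕ) (u : N), ((((φ ^ n) (Additive.ofMul u)).toMul : N) : G) = x ^ n * u * (x ^ n)⁻¹ := by
    intro n
    induction n with
    | zero => intro u; simp
    | succ n ih =>
      intro u
      rw [pow_succ]
      change ((((φ ^ n) (Additive.ofMul (c u))).toMul : N) : G) = _
      rw [ih]
      simp [c, pow_succ, mul_assoc]
  refine (Nat.card_congr Additive.ofMul).trans
    (card_eq_of_irreducible_end hp hq (fun a => ?_) φ (DFunLike.ext _ _ fun a => ?_) (fun h => ?_) hqp
      (fun B hB => ?_))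
  · apply Additive.toMul.injective
    exact Subtype.ext (by simpa using hexp _ (Additive.toMul a).2)
  · apply Additive.toMul.injective
    apply Subtype.ext
    have := hiter p (Additive.toMul a)
    rw [hx] at this
    simpa using this
  · obtain ⟨a, ha, hxa⟩ := hne
    apply hxa
    have h1 : x * a * x⁻¹ = a := congrArg (fun z => ((Additive.toMul z : N) : G))
      (DFunLike.congr_fun h (Additive.ofMul (⟨a, ha⟩ : N)))
    exact mul_inv_eq_iff_eq_mul.mp h1
  · let B' : Subgroup N := AddSubgroup.toSubgroup' B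
    rcases hirr (B'.map N.subtype) (Subgroup.map_subtype_le _) (by
      rintro b ⟨u, hu, rfl⟩
      exact ⟨c u, hB _ hu, rfl⟩) with h | h
    · left
      rw [Subgroup.map_eq_bot_iff_of_injective _ N.subtype_injective] at h
      ext a
      exact ⟨fun ha => by
        have : Additive.toMul a ∈ B' := ha
        rw [h, Subgroup.mem_bot] at this
        exact AddSubgroup.mem_bot.mpr (Additive.toMul.injective this),
        fun ha => (AddSubgroup.mem_bot.mp ha) ▸ B.zero_mem⟩
    · right
      have h' : B' = ⊤ := Subgroup.map_injective N.subtype_injective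
        (h.trans (by rw [← MonoidHom.range_eq_map, Subgroup.range_subtype]))
      ext a
      exact ⟨fun _ => trivial, fun _ => show Additive.toMul a ∈ B' from h' ▸ Subgroup.mem_top _⟩

theorem sylow_commute_of_pClosed {G : Type*} [Group G] [Finite G] {p : ℕ} [Fact p.Prime]
    (P Q : Subgroup G) (hP : IsPGroup p P) (hQ : (Nat.card P).Coprime (Nat.card Q))
    (hPQ : P ≤ Subgroup.normalizer (Q : Set G)) (hpQ : ¬ p ∣ Nat.card Q)
    (hcl : Cfsg.IsPClosed p (P ⊔ Q : Subgroup G)) :
    P ≤ Subgroup.centralizer (Q : Set G) ∧ Q ≤ Subgroup.centralizer (P : Set G) := by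
  haveI hQn : (Q.subgroupOf (P ⊔ Q)).Normal :=
    Subgroup.normal_subgroupOf_of_le_normalizer (sup_le hPQ Subgroup.le_normalizer)
  obtain ⟨S, hS⟩ := (hP.of_equiv (Subgroup.subgroupOfEquivOfLe (le_sup_left : P ≤ P ⊔ Q)).symm).exists_le_sylow
  haveI := hcl S
  have hdis : Disjoint (S : Subgroup (P ⊔ Q : Subgroup G)) (Q.subgroupOf (P ⊔ Q)) := by
    rw [disjoint_iff]
    refine Subgroup.inf_eq_bot_of_coprime ?_
    obtain ⟨k, hk⟩ := S.2.exists_card_eq
    rw [hk, Nat.card_congr (Subgroup.subgroupOfEquivOfLe (le_sup_right : Q ≤ P ⊔ Q)).toEquiv]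
    exact Nat.Coprime.pow_left _ (((Fact.out : p.Prime).coprime_iff_not_dvd).mpr hpQ)
  have key : ∀ a ∈ P, ∀ b ∈ Q, a * b = b * a := fun a ha b hb =>
    congrArg Subtype.val (Subgroup.commute_of_normal_of_disjoint _ _ (hcl S) hQn hdis
      ⟨a, le_sup_left (b := Q) ha⟩ ⟨b, le_sup_right (a := P) hb⟩ (hS ha) hb)
  exact ⟨fun a ha => Subgroup.mem_centralizer_iff.mpr fun b hb => (key a ha b hb).symm,
    fun b hb => Subgroup.mem_centralizer_iff.mpr fun a ha => key a ha b hb⟩

theorem centralizer_zpowers {G : Type*} [Group G] (x : G) :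
    Subgroup.centralizer (Subgroup.zpowers x : Set G) = Subgroup.centralizer {x} := by
  rw [Subgroup.zpowers_eq_closure, Subgroup.centralizer_closure]

theorem minimal_nonPClosed {G : Type*} [Group G] [Finite G] {p : ℕ} [Fact p.Prime]
    (hnc : ¬ Cfsg.IsPClosed p G) (hsub : ∀ H : Subgroup G, H ≠ ⊤ → Cfsg.IsPClosed p ↥H)
    (N : Subgroup G) [N.Normal] (hN : N ≠ ⊥) (hpN : ¬ p ∣ Nat.card N)
    (huniq : ∀ M : Subgroup G, M.Normal → M ≠ ⊥ → N ≤ M)
    (htop : ∀ P : Sylow p G, (P : Subgroup G) ⊔ N = ⊤) :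
    ∃ q : ℕ, q.Prime ∧ q ≠ p ∧ Nat.card G = p * q ^ orderOf (q : ZMod p) ∧
      ∃ A : Subgroup G, A.Normal ∧ Nat.card ↥A = q ^ orderOf (q : ZMod p) ∧ Cfsg.IsElementaryAbelian q A ∧
        ∀ B : Subgroup G, B.Normal → B ≤ A → B = ⊥ ∨ B = A := by
  have hp : p.Prime := Fact.out
  simp only [Cfsg.IsPClosed, not_forall] at hnc
  obtain ⟨P, hPn⟩ := hnc
  have hco : (Nat.card (P : Subgroup G)).Coprime (Nat.card N) := by
    obtain ⟨k, hk⟩ := P.2.exists_card_eq
    rw [hk]
    exact Nat.Coprime.pow_left _ ((hp.coprime_iff_not_dvd).mpr hpN)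
  haveI : Group.IsSolvable (P : Subgroup G) := by
    haveI := P.2.isNilpotent
    infer_instance
  have hPN : (P : Subgroup G) ≤ Subgroup.normalizer (N : Set G) := fun g _ => by
    rw [Subgroup.normalizer_eq_top_iff.mpr ‹N.Normal›]; trivial
  have hnotcent : ¬ N ≤ Subgroup.centralizer ((P : Subgroup G) : Set G) := fun h => hPn (by
    rw [← Subgroup.normalizer_eq_top_iff, eq_top_iff, ← htop P]
    exact sup_le Subgroup.le_normalizer (h.trans (Subgroup.centralizer_le_normalizer _)))
  -- some invariant Sylow subgroup of N is not centralised by P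
  obtain ⟨q, hq, hqN, Q, hQN, hQp, hQtop⟩ : ∃ q, q.Prime ∧ q ∣ Nat.card N ∧ ∃ Q : Subgroup G,
      Q ≤ N ∧ IsPGroup q Q ∧ (P : Subgroup G) ⊔ Q = ⊤ ∧
        (P : Subgroup G) ≤ Subgroup.normalizer (Q : Set G) := by
    by_contra hcon
    push Not at hcon
    apply hnotcent
    have hle : N ⊓ Subgroup.centralizer ((P : Subgroup G) : Set G) = N := by
      refine Subgroup.eq_of_le_of_card_ge inf_le_left (Nat.le_of_dvd Nat.card_pos ?_)
      rw [Nat.dvd_iff_prime_pow_dvd_dvd]
      intro q k hq hqk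
      rcases Nat.eq_zero_or_pos k with rfl | hk0
      · simp
      haveI := Fact.mk hq
      obtain ⟨Q, hQ⟩ := CfsgLib.CoprimeAction.exists_invariant_sylow (A := (P : Subgroup G)) (K := N)
        hPN hco (Or.inl inferInstance) q
      have hQle : (Q : Subgroup N).map N.subtype ≤ N := Subgroup.map_subtype_le _
      have hne : (P : Subgroup G) ⊔ (Q : Subgroup N).map N.subtype ≠ ⊤ := fun h =>
        hcon q hq ((dvd_pow_self q hk0.ne').trans hqk) _ hQle (Q.2.map _) h hQ
      have hc := (sylow_commute_of_pClosed (P : Subgroup G) _ P.2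
        (hco.coprime_dvd_right (Subgroup.card_dvd_of_le hQle)) hQ
        (fun h => hpN (h.trans (Subgroup.card_dvd_of_le hQle))) (hsub _ hne)).2
      refine dvd_trans ?_ (Subgroup.card_dvd_of_le (le_inf hQle hc))
      rw [Subgroup.card_map_of_injective N.subtype_injective, Q.card_eq_multiplicity]
      exact pow_dvd_pow q ((hq.pow_dvd_iff_le_factorization Nat.card_pos.ne').mp hqk)
    exact hle ▸ inf_le_right
  haveI := Fact.mk hq
  have hqp : q ≠ p := fun h => hpN (h ▸ hqN)
  have hPQn : (P : Subgroup G) ≤ Subgroup.normalizer (Q : Set G) := hQtop.2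
  have hcardPN : Nat.card G = Nat.card (P : Subgroup G) * Nat.card N := by
    have := card_sup_mul_card_inf N (P : Subgroup G)
    rw [sup_comm, htop P, inf_comm, inf_eq_bot_of_coprime_card hco, Subgroup.card_bot, mul_one,
      Subgroup.card_top] at this
    rw [this, mul_comm]
  have hQN' : Q = N := by
    refine le_antisymm hQN fun n hn => ?_
    have hQnorm : Q.Normal := by
      rw [← Subgroup.normalizer_eq_top_iff, eq_top_iff, ← hQtop.1]
      exact sup_le hPQn Subgroup.le_normalizer
    obtain ⟨a, ha, b, hb, hab⟩ := exists_mul_of_mem_sup (A := Q) (H := (P : Subgroup G))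
      (fun g _ => by rw [Subgroup.normalizer_eq_top_iff.mpr hQnorm]; trivial)
      (show n ∈ Q ⊔ (P : Subgroup G) by rw [sup_comm, hQtop.1]; trivial)
    have : b ∈ (P : Subgroup G) ⊓ N := ⟨hb, by
      have : b = a⁻¹ * n := by rw [← hab]; group
      exact this ▸ N.mul_mem (N.inv_mem (hQN ha)) hn⟩
    rw [inf_eq_bot_of_coprime_card hco, Subgroup.mem_bot] at this
    rw [← hab, this, mul_one]; exact ha
  subst hQN'
  haveI : Group.IsSolvable Q := by
    haveI := hQp.isNilpotent
    infer_instance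
  have hmin : IsMinNormal Q := ⟨inferInstance, hN, fun M hM hMQ =>
    (eq_or_ne M ⊥).imp id fun h => le_antisymm hMQ (huniq M hM h)⟩
  obtain ⟨q', hq', habel, hq'p, hexp⟩ := hmin.elementaryAbelian
  haveI := habel
  have hqq : q' = q := by
    obtain ⟨a, ha, ha1⟩ := Q.bot_or_exists_ne_one.resolve_left hN
    obtain ⟨i, hi⟩ := IsPGroup.iff_orderOf.mp hQp ⟨a, ha⟩
    rw [Subgroup.orderOf_mk, orderOf_eq_prime (hp := ⟨hq'⟩) (hexp a ha) ha1] at hi
    exact (Nat.prime_dvd_prime_iff_eq hq' hq).mp (hq'.dvd_of_dvd_pow hi.dvd)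
  subst hqq
  -- |P| = p
  have hPne : (P : Subgroup G) ≠ ⊥ := fun h => hPn (h ▸ inferInstance)
  haveI : Nontrivial (P : Subgroup G) := (Subgroup.nontrivial_iff_ne_bot _).mpr hPne
  haveI := P.2.center_nontrivial
  obtain ⟨z, hz⟩ := exists_prime_orderOf_dvd_card' (G := Subgroup.center (P : Subgroup G)) p (by
    obtain ⟨k, hk, he⟩ := (P.2.to_subgroup (Subgroup.center (P : Subgroup G))).nontrivial_iff_card.mp inferInstance
    exact he ▸ dvd_pow_self p hk.ne')
  set x : G := ((z : (P : Subgroup G)) : G) with hxdef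
  have hxo : orderOf x = p := by rw [hxdef, Subgroup.orderOf_coe, Subgroup.orderOf_coe, hz]
  have hxP : x ∈ (P : Subgroup G) := (z : (P : Subgroup G)).2
  have hxc : Subgroup.zpowers x ⊔ Q = ⊤ := by
    by_contra hne
    have hxQ : Subgroup.zpowers x ≤ Subgroup.normalizer (Q : Set G) :=
      Subgroup.zpowers_le.mpr (hPN hxP)
    have hc := (sylow_commute_of_pClosed (Subgroup.zpowers x) Q
      (P.2.to_le (Subgroup.zpowers_le.mpr hxP))
      (hco.coprime_dvd_left (Subgroup.card_dvd_of_le (Subgroup.zpowers_le.mpr hxP))) hxQ hpN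
      (hsub _ hne)).1
    have hnorm : (Subgroup.zpowers x).Normal := by
      rw [← Subgroup.normalizer_eq_top_iff, eq_top_iff, ← htop P]
      refine sup_le (fun g hg => ?_) fun g hg => ?_
      · apply Subgroup.centralizer_le_normalizer
        rw [centralizer_zpowers, Subgroup.mem_centralizer_singleton_iff]
        exact congrArg Subtype.val (Subgroup.mem_center_iff.mp z.2 ⟨g, hg⟩)
      · apply Subgroup.centralizer_le_normalizer
        rw [centralizer_zpowers, Subgroup.mem_centralizer_singleton_iff]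
        exact Subgroup.mem_centralizer_iff.mp (hc (Subgroup.mem_zpowers x)) g hg
    have hle := huniq _ hnorm (by
      rw [Ne, Subgroup.zpowers_eq_bot]; intro h; rw [h, orderOf_one] at hxo; exact hp.ne_one hxo.symm)
    exact hpN (absurd (Subgroup.card_eq_one.mp (Nat.eq_one_of_dvd_coprimes hco
      (Subgroup.card_dvd_of_le (hle.trans (Subgroup.zpowers_le.mpr hxP))) dvd_rfl)) hN)
  have hcard : Nat.card G = p * Nat.card Q := by
    have := card_sup_mul_card_inf Q (Subgroup.zpowers x)
    rw [sup_comm, hxc, inf_comm, inf_eq_bot_of_coprime_card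
      (hco.coprime_dvd_left (Subgroup.card_dvd_of_le (Subgroup.zpowers_le.mpr hxP))),
      Subgroup.card_bot, mul_one, Subgroup.card_top, Nat.card_zpowers, hxo] at this
    rw [this, mul_comm]
  have hQe : Nat.card Q = q' ^ orderOf (q' : ZMod p) := by
    refine card_eq_of_irreducible hp hq' hqp Q hexp x (hxo ▸ pow_orderOf_eq_one x) ?_ ?_
    · by_contra hcon
      push Not at hcon
      apply hnotcent
      have hPx : (P : Subgroup G) = Subgroup.zpowers x := by
        refine (Subgroup.eq_of_le_of_card_ge (Subgroup.zpowers_le.mpr hxP) ?_).symm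
        rw [Nat.card_zpowers, hxo]
        exact (Nat.eq_of_mul_eq_mul_right Nat.card_pos (hcardPN.symm.trans hcard)).le
      rw [hPx, centralizer_zpowers]
      exact fun a ha => Subgroup.mem_centralizer_singleton_iff.mpr (hcon a ha).symm
    · intro B hB hxB
      have hBn : B.Normal := by
        rw [← Subgroup.normalizer_eq_top_iff, eq_top_iff, ← hxc]
        refine sup_le (Subgroup.zpowers_le.mpr ?_) fun a ha => ?_
        · exact Subgroup.mem_normalizer_fintype (fun b hb => hxB b hb)
        · apply Subgroup.centralizer_le_normalizer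
          exact Subgroup.mem_centralizer_iff.mpr fun b hb =>
            congrArg Subtype.val (mul_comm (⟨b, hB hb⟩ : Q) ⟨a, ha⟩)
      exact (eq_or_ne B ⊥).imp id fun h => le_antisymm hB (huniq B hBn h)
  refine ⟨q', hq', hqp, ?_, Q, inferInstance, hQe, ⟨habel, hexp⟩, hmin.2.2⟩
  rw [hcard, hQe]

/-- Non-simple minimal non-p-closed groups. -/
theorem minimal_nonPClosed_not_simple {G : Type*} [Group G] [Finite G] {p : ℕ} [Fact p.Prime]
    (hnc : ¬ Cfsg.IsPClosed p G) (hsub : ∀ H : Subgroup G, H ≠ ⊤ → Cfsg.IsPClosed p ↥H)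
    (hquo : ∀ (N : Subgroup G) [N.Normal], N ≠ ⊥ → Cfsg.IsPClosed p (G ⧸ N)) (hns : ¬ IsSimpleGroup G) :
    ∃ q : ℕ, q.Prime ∧ q ≠ p ∧ Nat.card G = p * q ^ orderOf (q : ZMod p) ∧
      ∃ A : Subgroup G, A.Normal ∧ Nat.card ↥A = q ^ orderOf (q : ZMod p) ∧ Cfsg.IsElementaryAbelian q A ∧
        ∀ B : Subgroup G, B.Normal → B ≤ A → B = ⊥ ∨ B = A := by
  haveI : Nontrivial G := by
    refine not_subsingleton_iff_nontrivial.mp fun hs => hnc fun P => ?_
    rw [Subsingleton.elim (P : Subgroup G) ⊤]; infer_instance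
  have hPN : ∀ (P : Sylow p G) (N : Subgroup G) [N.Normal], N ≠ ⊥ → ((P : Subgroup G) ⊔ N).Normal := by
    intro P N _ hN
    have h := (hquo N hN (P.mapSurjective (QuotientGroup.mk'_surjective N))).comap (QuotientGroup.mk' N)
    rwa [Sylow.coe_mapSurjective, Subgroup.comap_map_eq, QuotientGroup.ker_mk'] at h
  obtain ⟨P₀, hP₀⟩ : ∃ P : Sylow p G, ¬ (P : Subgroup G).Normal := by
    simpa [Cfsg.IsPClosed] using hnc
  have hno : ∀ P : Sylow p G, ¬ (P : Subgroup G).Normal := fun P hP => hP₀ (by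
    obtain ⟨g, rfl⟩ := MulAction.exists_smul_eq G P P₀
    rw [Sylow.smul_eq_of_normal]; exact hP)
  -- every proper nontrivial normal subgroup supplements each Sylow subgroup
  have htop : ∀ N : Subgroup G, N.Normal → N ≠ ⊥ → ∀ P : Sylow p G, (P : Subgroup G) ⊔ N = ⊤ := by
    intro N hNn hN P
    haveI := hNn
    by_contra hne
    haveI := hPN P N hN
    haveI := hsub _ hne (P.subtype le_sup_left)
    apply hno P
    have := Sylow.normal_of_normalizer_normal P
    rw [← Subgroup.normalizer_eq_top_iff, eq_top_iff, ← Sylow.normalizer_sup_eq_top (P.subtype (le_sup_left : (P : Subgroup G) ≤ (P : Subgroup G) ⊔ N))]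
    refine sup_le ?_ ?_
    · rw [Sylow.coe_subtype, Subgroup.map_subgroupOf_eq_of_le le_sup_left]
    · intro g hg
      have hsn : ((P.subtype (le_sup_left : (P : Subgroup G) ≤ (P : Subgroup G) ⊔ N) :
          Subgroup ((P : Subgroup G) ⊔ N : Subgroup G))).Normal := inferInstance
      rw [Sylow.coe_subtype, Subgroup.normal_subgroupOf_iff_le_normalizer le_sup_left] at hsn
      exact hsn hg
  obtain ⟨N, hN⟩ := exists_isMinNormal (G := G)
  haveI := hN.1
  have hNT : N ≠ ⊤ := fun h => hns
    ⟨fun M hM => (hN.2.2 M hM (h ▸ le_top)).imp id fun e => e.trans h⟩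
  have hpN : ¬ p ∣ Nat.card N := by
    intro hd
    obtain ⟨S⟩ : Nonempty (Sylow p N) := inferInstance
    have hSn : (S : Subgroup N).Normal := hsub N hNT S
    haveI := S.characteristic_of_normal hSn
    have hSG : ((S : Subgroup N).map N.subtype).Normal := inferInstance
    have hSne : (S : Subgroup N).map N.subtype ≠ ⊥ := by
      rw [Ne, Subgroup.map_eq_bot_iff_of_injective _ N.subtype_injective]
      exact fun h => S.ne_bot_of_dvd_card hd h
    obtain ⟨P, hP⟩ := (S.2.map N.subtype).exists_le_sylow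
    have h := htop _ hSG hSne P
    rw [sup_eq_left.mpr hP] at h
    exact hno P (h ▸ inferInstance)
  refine minimal_nonPClosed hnc hsub N hN.2.1 hpN (fun M hM hMne => ?_)
    (fun P => htop N hN.1 hN.2.1 P)
  by_contra hle
  haveI := hM
  have hinf : M ⊓ N = ⊥ := (hN.2.2 (M ⊓ N) inferInstance inf_le_right).resolve_right
    (fun h => hle (h ▸ inf_le_left))
  apply hno P₀
  refine ⟨fun x hx g => ?_⟩
  have hM' := hPN P₀ M hMne
  -- G/N is a p-group, so M is one, so P₀ contains M
  have hcard : Nat.card M ∣ Nat.card (P₀ : Subgroup G) := by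
    have h1 := card_sup_mul_card_inf N M
    rw [inf_comm, hinf, Subgroup.card_bot, mul_one] at h1
    have h2 := card_sup_mul_card_inf N (P₀ : Subgroup G)
    rw [sup_comm, htop N hN.1 hN.2.1 P₀, Subgroup.card_top] at h2
    have h3 : Nat.card N * Nat.card M ∣ Nat.card N * Nat.card (P₀ : Subgroup G) :=
      (h1 ▸ (N ⊔ M).card_subgroup_dvd_card).trans (h2 ▸ dvd_mul_right _ _)
    exact Nat.dvd_of_mul_dvd_mul_left Nat.card_pos h3
  have hMp : IsPGroup p M := by
    obtain ⟨k, hk⟩ := P₀.2.exists_card_eq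
    obtain ⟨j, -, hj⟩ := (Nat.dvd_prime_pow Fact.out).mp (hk ▸ hcard)
    exact IsPGroup.of_card hj
  obtain ⟨P, hP⟩ := hMp.exists_le_sylow
  have h := htop M hM hMne P
  rw [sup_eq_left.mpr hP] at h
  exact absurd (h ▸ inferInstance) (hno P)

/-- Non-simple minimal non-p-exponent-closed groups that are not p-groups. -/
theorem minimal_nonPExpClosed {G : Type*} [Group G] [Finite G] {p : ℕ} [Fact p.Prime]
    (hnc : ¬ (∃ H : Subgroup G, (H : Set G) = {g : G | g ^ p = 1}))
    (hsub : ∀ K : Subgroup G, K ≠ ⊤ → (∃ H : Subgroup ↥K, (H : Set ↥K) = {g : ↥K | g ^ p = 1}))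
    (hquo : ∀ (N : Subgroup G) [N.Normal], N ≠ ⊥ → (∃ H : Subgroup (G ⧸ N), (H : Set (G ⧸ N)) = {g : (G ⧸ N) | g ^ p = 1}))
    (hns : ¬ IsSimpleGroup G) (hnp : ¬ IsPGroup p G) :
    ∃ q : ℕ, q.Prime ∧ q ≠ p ∧ Nat.card G = p * q ^ orderOf (q : ZMod p) ∧
      ∃ A : Subgroup G, A.Normal ∧ Nat.card ↥A = q ^ orderOf (q : ZMod p) ∧ Cfsg.IsElementaryAbelian q A ∧
        ∀ B : Subgroup G, B.Normal → B ≤ A → B = ⊥ ∨ B = A := by
  have hp : p.Prime := Fact.out
  haveI : Nontrivial G := by
    refine not_subsingleton_iff_nontrivial.mp fun hs => hnc ⟨⊤, ?_⟩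
    ext g; simp [Subsingleton.elim g 1]
  -- generation by the solutions
  have hgen : Subgroup.closure {g : G | g ^ p = 1} = ⊤ := by
    by_contra hne
    obtain ⟨H, hH⟩ := hsub _ hne
    apply hnc
    refine ⟨H.map (Subgroup.closure {g : G | g ^ p = 1}).subtype, Set.ext fun g => ⟨?_, fun hg => ?_⟩⟩
    · rintro ⟨y, hy, rfl⟩
      rw [hH] at hy
      exact congrArg Subtype.val (hy : y ^ p = 1)
    · refine ⟨⟨g, Subgroup.subset_closure hg⟩, ?_, rfl⟩
      rw [hH]; exact Subtype.ext hg
  have hquop : ∀ (M : Subgroup G), M.Normal → M ≠ ⊥ → ∀ g : G, g ^ p ∈ M := by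
    intro M hMn hM g
    haveI := hMn
    obtain ⟨H, hH⟩ := hquo M hM
    have hle : Subgroup.closure {g : G | g ^ p = 1} ≤ H.comap (QuotientGroup.mk' M) :=
      (Subgroup.closure_le _).mpr fun y (hy : y ^ p = 1) => by
        change QuotientGroup.mk' M y ∈ (H : Set (G ⧸ M))
        rw [hH]
        change (QuotientGroup.mk' M y) ^ p = 1
        rw [← map_pow, hy, map_one]
    have hmem : QuotientGroup.mk' M g ∈ (H : Set (G ⧸ M)) := hle (hgen ▸ Subgroup.mem_top g)
    rw [hH] at hmem
    have h1 : QuotientGroup.mk' M (g ^ p) = 1 := by rw [map_pow]; exact hmem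
    exact (QuotientGroup.eq_one_iff _).mp h1
  obtain ⟨N, hN⟩ := exists_isMinNormal (G := G)
  haveI := hN.1
  have hNT : N ≠ ⊤ := fun h => hns
    ⟨fun M hM => (hN.2.2 M hM (h ▸ le_top)).imp id fun e => e.trans h⟩
  have huniq : ∀ M : Subgroup G, M.Normal → M ≠ ⊥ → N ≤ M := by
    intro M hM hMne
    by_contra hle
    haveI := hM
    have hinf : M ⊓ N = ⊥ := (hN.2.2 (M ⊓ N) inferInstance inf_le_right).resolve_right
      (fun h => hle (h ▸ inf_le_left))
    exact hnp fun g => ⟨1, by
      rw [pow_one, ← Subgroup.mem_bot, ← hinf]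
      exact ⟨hquop M hM hMne g, hquop N hN.1 hN.2.1 g⟩⟩
  have hNnp : ¬ IsPGroup p N := fun h => hnp fun g => by
    obtain ⟨k, hk⟩ := h ⟨g ^ p, hquop N hN.1 hN.2.1 g⟩
    exact ⟨k + 1, by rw [pow_succ', pow_mul]; exact congrArg Subtype.val hk⟩
  have hpN : ¬ p ∣ Nat.card N := by
    intro hd
    obtain ⟨H, hH⟩ := hsub N hNT
    have hHn : (H.map N.subtype).Normal := ⟨by
      rintro _ ⟨y, hy, rfl⟩ g
      rw [SetLike.mem_coe, ← SetLike.mem_coe, hH] at hy
      refine ⟨⟨g * y * g⁻¹, Subgroup.Normal.conj_mem inferInstance _ y.2 g⟩, ?_, rfl⟩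
      rw [SetLike.mem_coe, ← SetLike.mem_coe, hH]
      refine Subtype.ext ?_
      change (g * (y : G) * g⁻¹) ^ p = 1
      rw [conj_pow, show (y : G) ^ p = 1 from congrArg Subtype.val (hy : y ^ p = 1), mul_one,
        mul_inv_cancel]⟩
    rcases hN.2.2 _ hHn (Subgroup.map_subtype_le H) with h | h
    · obtain ⟨y, hy⟩ := exists_prime_orderOf_dvd_card' p hd
      have hyH : y ∈ H := by
        rw [← SetLike.mem_coe, hH]; exact hy ▸ pow_orderOf_eq_one y
      rw [Subgroup.map_eq_bot_iff_of_injective _ N.subtype_injective] at h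
      rw [h, Subgroup.mem_bot] at hyH
      rw [hyH, orderOf_one] at hy
      exact hp.ne_one hy.symm
    · refine hNnp fun y => ⟨1, ?_⟩
      obtain ⟨z, hz, hzy⟩ := (by rw [h]; exact y.2 : (y : G) ∈ H.map N.subtype)
      rw [← N.subtype_injective hzy, pow_one]
      rw [SetLike.mem_coe, ← SetLike.mem_coe, hH] at hz
      exact hz
  -- some element of order p generates G together with N
  obtain ⟨x, hxp, hx1, hxtop⟩ : ∃ x : G, x ^ p = 1 ∧ x ≠ 1 ∧ Subgroup.zpowers x ⊔ N = ⊤ := by
    by_contra hcon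
    push Not at hcon
    have hc : N ≤ Subgroup.center G := by
      intro n hn
      rw [Subgroup.mem_center_iff]
      intro g
      have hle : Subgroup.closure {g : G | g ^ p = 1} ≤ Subgroup.centralizer {n} := by
        refine (Subgroup.closure_le _).mpr fun y (hy : y ^ p = 1) => ?_
        rw [SetLike.mem_coe, Subgroup.mem_centralizer_singleton_iff]
        rcases eq_or_ne y 1 with rfl | hy1
        · simp
        obtain ⟨H, hH⟩ := hsub _ (hcon y hy hy1)
        have hyH : (⟨y, le_sup_left (b := N) (Subgroup.mem_zpowers y)⟩ : (Subgroup.zpowers y ⊔ N : Subgroup G)) ∈ H := by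
          rw [← SetLike.mem_coe, hH]; exact Subtype.ext hy
        let n' : (Subgroup.zpowers y ⊔ N : Subgroup G) := ⟨n, le_sup_right (a := Subgroup.zpowers y) hn⟩
        have hconj : n' * ⟨y, le_sup_left (b := N) (Subgroup.mem_zpowers y)⟩ * n'⁻¹ ∈ H := by
          rw [← SetLike.mem_coe, hH]
          change _ ^ p = 1
          rw [conj_pow, show (⟨y, _⟩ : (Subgroup.zpowers y ⊔ N : Subgroup G)) ^ p = 1 from Subtype.ext hy, mul_one, mul_inv_cancel]
        have hcomm := H.mul_mem hconj (H.inv_mem hyH)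
        rw [← SetLike.mem_coe, hH] at hcomm
        have hN' : n * y * n⁻¹ * y⁻¹ ∈ N := by
          rw [mul_assoc n, mul_assoc n]
          exact N.mul_mem hn (by
            simpa [mul_assoc] using Subgroup.Normal.conj_mem inferInstance _ (N.inv_mem hn) y)
        simp only [Set.mem_ofPred_eq] at hcomm
        have hp1 : (n * y * n⁻¹ * y⁻¹) ^ p = 1 := congrArg Subtype.val hcomm
        have : n * y * n⁻¹ * y⁻¹ = 1 := by
          by_contra hne
          apply hpN
          rw [← orderOf_eq_prime hp1 hne]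
          exact N.orderOf_dvd_natCard hN'
        exact (mul_inv_eq_iff_eq_mul.mp (mul_inv_eq_one.mp this)).symm
      exact Subgroup.mem_centralizer_singleton_iff.mp (hle (hgen ▸ Subgroup.mem_top g))
    -- the group is then nilpotent, so generated inside a p-group
    obtain ⟨P⟩ : Nonempty (Sylow p G) := inferInstance
    have hsup : (P : Subgroup G) ⊔ N = ⊤ := by
      have hq : IsPGroup p (G ⧸ N) := by
        intro w
        obtain ⟨w, rfl⟩ := QuotientGroup.mk'_surjective N w
        exact ⟨1, by rw [pow_one, ← map_pow]; exact (QuotientGroup.eq_one_iff _).mpr (hquop N hN.1 hN.2.1 w)⟩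
      have hPq : (P : Subgroup G).map (QuotientGroup.mk' N) = ⊤ :=
        ((P.mapSurjective (QuotientGroup.mk'_surjective N)).3 (Q := ⊤) (hq.to_subgroup _) le_top).symm
      have h := Subgroup.comap_map_eq (QuotientGroup.mk' N) (P : Subgroup G)
      rw [hPq, Subgroup.comap_top, QuotientGroup.ker_mk'] at h
      exact h.symm
    have hPnorm : (P : Subgroup G).Normal := by
      rw [← Subgroup.normalizer_eq_top_iff, eq_top_iff, ← hsup]
      exact sup_le Subgroup.le_normalizer (hc.trans (Subgroup.center_le_normalizer _))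
    have hall : ∀ y : G, y ^ p = 1 → y ∈ (P : Subgroup G) := fun y hy => by
      have hyp : IsPGroup p (Subgroup.zpowers y) := by
        obtain ⟨k, -, hk⟩ := (Nat.dvd_prime_pow hp).mp
          ((orderOf_dvd_of_pow_eq_one hy).trans (pow_one p).symm.dvd)
        exact IsPGroup.of_card (by rw [Nat.card_zpowers, hk])
      obtain ⟨Q, hQ⟩ := hyp.exists_le_sylow
      obtain ⟨g, hg⟩ := MulAction.exists_smul_eq G P Q
      haveI := hPnorm
      rw [Sylow.smul_eq_of_normal] at hg
      exact hg ▸ hQ (Subgroup.mem_zpowers y)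
    refine hnp (P.2.of_equiv ((MulEquiv.subgroupCongr ?_).trans Subgroup.topEquiv))
    rw [eq_top_iff, ← hgen, Subgroup.closure_le]
    exact hall
  have hxo : orderOf x = p := orderOf_eq_prime hxp hx1
  have hcard : Nat.card G = p * Nat.card N := by
    have h := card_sup_mul_card_inf N (Subgroup.zpowers x)
    have hco : (Nat.card (Subgroup.zpowers x)).Coprime (Nat.card N) := by
      rw [Nat.card_zpowers, hxo]; exact (hp.coprime_iff_not_dvd).mpr hpN
    rw [sup_comm, hxtop, inf_comm, inf_eq_bot_of_coprime_card hco, Subgroup.card_bot, mul_one,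
      Subgroup.card_top, Nat.card_zpowers, hxo] at h
    rw [h, mul_comm]
  have hsyl : ∀ P : Sylow p G, Nat.card (P : Subgroup G) = p := fun P => by
    rw [P.card_eq_multiplicity, hcard, Nat.factorization_mul hp.ne_zero Nat.card_pos.ne']
    simp [hp.factorization_self, Nat.factorization_eq_zero_of_not_dvd hpN]
  refine minimal_nonPClosed ?_ ?_ N hN.2.1 hpN huniq ?_
  · intro hcl
    obtain ⟨P⟩ : Nonempty (Sylow p G) := inferInstance
    haveI := hcl P
    apply hnp
    refine P.2.of_equiv ((MulEquiv.subgroupCongr ?_).trans Subgroup.topEquiv)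
    rw [eq_top_iff, ← hgen, Subgroup.closure_le]
    intro y hy
    have hyp : IsPGroup p (Subgroup.zpowers y) := by
      obtain ⟨k, -, hk⟩ := (Nat.dvd_prime_pow hp).mp
        ((orderOf_dvd_of_pow_eq_one (hy : y ^ p = 1)).trans (pow_one p).symm.dvd)
      exact IsPGroup.of_card (by rw [Nat.card_zpowers, hk])
    obtain ⟨Q, hQ⟩ := hyp.exists_le_sylow
    obtain ⟨g, hg⟩ := MulAction.exists_smul_eq G P Q
    haveI := hcl P
    rw [Sylow.smul_eq_of_normal] at hg
    exact hg ▸ hQ (Subgroup.mem_zpowers y)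
  · intro K hK S
    obtain ⟨H, hH⟩ := hsub K hK
    haveI hHn : H.Normal := ⟨fun y hy g => by
      rw [← SetLike.mem_coe, hH] at hy ⊢
      change (g * y * g⁻¹) ^ p = 1
      rw [conj_pow, (hy : y ^ p = 1), mul_one, mul_inv_cancel]⟩
    have hle : (S : Subgroup K) ≤ H := fun y hy => by
      rw [← SetLike.mem_coe, hH]
      have hd : Nat.card (S : Subgroup K) ∣ p := by
        obtain ⟨P, hP⟩ := (S.2.map K.subtype).exists_le_sylow
        have h := Subgroup.card_dvd_of_le hP
        rw [Subgroup.card_map_of_injective K.subtype_injective, hsyl P] at h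
        exact h
      exact orderOf_dvd_iff_pow_eq_one.mp
        (((S : Subgroup K).orderOf_dvd_natCard hy).trans hd)
    have hHp : IsPGroup p H := fun y => ⟨1, by
      have : (y : K) ∈ (H : Set K) := y.2
      rw [hH] at this
      rw [pow_one]; exact Subtype.ext this⟩
    rw [← S.3 hHp hle]; exact hHn
  · intro P
    refine Subgroup.eq_top_of_card_eq _ ?_
    have h := card_sup_mul_card_inf N (P : Subgroup G)
    have hco : (Nat.card (P : Subgroup G)).Coprime (Nat.card N) := by
      rw [hsyl P]; exact (hp.coprime_iff_not_dvd).mpr hpN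
    rw [inf_comm, inf_eq_bot_of_coprime_card hco, Subgroup.card_bot, mul_one, hsyl P] at h
    rw [sup_comm, h, hcard, mul_comm]

end CfsgLib.Hall
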