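/-
The converse description of minimal non-p-closed groups that are not simple.
-/
import Cfsg.Agent.Hall.MinNonPClosed

set_option autoImplicit false
set_option linter.style.haveILetI false

namespace CfsgLib.Hall

theorem isPClosed_of_card_dvd_prime {H : Type*} [Group H] [Finite H] {p : ℕ} [hp : Fact p.Prime]
    (h : Nat.card H ∣ p) : Cfsg.IsPClosed p H := fun P => by
  rcases (Nat.dvd_prime hp.out).mp h with h1 | h1
  · haveI : Subsingleton H := (Nat.card_eq_one_iff_unique.mp h1).1
    exact ⟨fun n hn g => by rwa [Subsingleton.elim (g * n * g⁻¹) n]⟩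
  · haveI := isCyclic_of_prime_card h1
    letI := IsCyclic.commGroup (α := H)
    infer_instance

theorem abelian_minimal_normal_of_prime_index {G : Type*} [Group G] [Finite G] {p q : ℕ} [Fact p.Prime] (hq : q.Prime)
    (hpq : q ≠ p) (hna : ¬ IsMulCommutative G) (A : Subgroup G) [A.Normal] (hA : Cfsg.IsElementaryAbelian q A)
    (hidx : A.index = p) (hmin : ∀ B : Subgroup G, B.Normal → B ≤ A → B = ⊥ ∨ B = A) :
    Nat.card ↥A = q ^ orderOf (q : ZMod p) ∧ ¬ Cfsg.IsPClosed p G ∧
      (∀ H : Subgroup G, H ≠ ⊤ → Cfsg.IsPClosed p ↥H) ∧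
      ∀ (N : Subgroup G) [N.Normal], N ≠ ⊥ → Cfsg.IsPClosed p (G ⧸ N) := by
  have hp : p.Prime := Fact.out
  haveI := Fact.mk hq
  haveI : IsMulCommutative A := hA.1
  have hc : ∀ a ∈ A, ∀ b ∈ A, a * b = b * a := fun a ha b hb =>
    congrArg Subtype.val (mul_comm' (⟨a, ha⟩ : A) ⟨b, hb⟩)
  have hqA : IsPGroup q A := fun a => ⟨1, Subtype.ext (by simpa using hA.2 _ a.2)⟩
  have hnotp : ¬ p ∣ Nat.card A := by
    obtain ⟨k, hk⟩ := hqA.exists_card_eq
    rw [hk]; exact fun h => hpq ((Nat.prime_dvd_prime_iff_eq hp hq).mp (hp.dvd_of_dvd_pow h)).symm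
  have hout : ∀ y : G, orderOf y = p → y ∉ A := fun y hy h => hnotp (hy ▸ A.orderOf_dvd_natCard h)
  have hgen : ∀ y : G, y ∉ A → ∀ K : Subgroup G, A ≤ K → y ∈ K → K = ⊤ := by
    intro y hy K hAK hyK
    have hd := Subgroup.index_dvd_of_le hAK
    rw [hidx] at hd
    rcases (Nat.dvd_prime hp).mp hd with h | h
    · exact Subgroup.index_eq_one.mp h
    · have := Subgroup.relIndex_mul_index hAK
      rw [hidx, h] at this
      exact absurd (Subgroup.relIndex_eq_one.mp ((Nat.mul_eq_right hp.ne_zero).mp this) hyK) hy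
  have hnormal : ∀ y : G, y ∉ A → ∀ B : Subgroup G, B ≤ A → (∀ b ∈ B, y * b * y⁻¹ ∈ B) → B.Normal := by
    intro y hy B hB hinv
    rw [← Subgroup.normalizer_eq_top_iff]
    refine hgen y hy _ (fun a ha => Subgroup.mem_normalizer_fintype fun b hb => ?_) (Subgroup.mem_normalizer_fintype hinv)
    show a * b * a⁻¹ ∈ B
    rwa [hc a ha b (hB hb), mul_inv_cancel_right]
  have hncent : ∀ y : G, y ∉ A → ¬ ∀ a ∈ A, y * a = a * y := by
    intro y hy h
    have h1 : Subgroup.centralizer (A : Set G) = ⊤ :=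
      hgen y hy _ (fun a ha => Subgroup.mem_centralizer_iff.mpr fun b hb => hc b hb a ha)
        (Subgroup.mem_centralizer_iff.mpr fun a ha => (h a ha).symm)
    have h2 : Subgroup.center G = ⊤ := hgen y hy _
      (fun a ha => Subgroup.mem_center_iff.mpr fun g =>
        (Subgroup.mem_centralizer_iff.mp (h1 ▸ Subgroup.mem_top g) a ha).symm)
      (Subgroup.mem_center_iff.mpr fun g => by
        have h3 : Subgroup.centralizer ({y} : Set G) = ⊤ := hgen y hy _
          (fun a ha => Subgroup.mem_centralizer_singleton_iff.mpr (h a ha).symm)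
          (Subgroup.mem_centralizer_singleton_iff.mpr rfl)
        exact Subgroup.mem_centralizer_singleton_iff.mp (h3 ▸ Subgroup.mem_top g))
    exact hna ⟨⟨fun a b => (Subgroup.mem_center_iff.mp (h2 ▸ Subgroup.mem_top b) a)⟩⟩
  obtain ⟨x, hx⟩ := exists_prime_orderOf_dvd_card' (G := G) p (hidx ▸ A.index_dvd_card)
  refine ⟨card_eq_of_irreducible hp hq hpq A hA.2 x (hx ▸ pow_orderOf_eq_one x) ?_ fun B hB hinv =>
    hmin B (hnormal x (hout x hx) B hB hinv) hB, ?_, ?_, ?_⟩
  · have := hncent x (hout x hx)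
    push Not at this
    exact this
  · intro hcl
    obtain ⟨P, hP⟩ := (IsPGroup.of_card (G := Subgroup.zpowers x) (n := 1)
      (by rw [Nat.card_zpowers, hx, pow_one])).exists_le_sylow
    have hdis : Disjoint (P : Subgroup G) A := by
      rw [disjoint_iff]
      obtain ⟨k, hk⟩ := P.2.exists_card_eq
      exact inf_eq_bot_of_coprime_card (hk ▸ Nat.Coprime.pow_left _ (hp.coprime_iff_not_dvd.mpr hnotp))
    exact hncent x (hout x hx) fun a ha =>
      Subgroup.commute_of_normal_of_disjoint _ _ (hcl P) inferInstance hdis x a (hP (Subgroup.mem_zpowers x)) ha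
  · intro H hH
    by_cases hd : p ∣ Nat.card H
    · obtain ⟨⟨y, hyH⟩, hy⟩ := exists_prime_orderOf_dvd_card' (G := H) p hd
      rw [Subgroup.orderOf_mk] at hy
      haveI := hnormal y (hout y hy) (H ⊓ A) inf_le_right fun b hb =>
        ⟨H.mul_mem (H.mul_mem hyH hb.1) (H.inv_mem hyH), Subgroup.Normal.conj_mem inferInstance b hb.2 y⟩
      rcases hmin (H ⊓ A) inferInstance inf_le_right with h | h
      · have := card_sup_mul_card_inf A H
        rw [inf_comm, h, Subgroup.card_bot, mul_one,
          hgen y (hout y hy) (A ⊔ H) le_sup_left (Subgroup.mem_sup_right hyH), Subgroup.card_top,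
          ← A.card_mul_index, hidx] at this
        exact isPClosed_of_card_dvd_prime (Nat.eq_of_mul_eq_mul_left Nat.card_pos this).symm.dvd
      · exact absurd (hgen y (hout y hy) H (inf_eq_right.mp h) hyH) hH
    · intro P
      have h1 : (P : Subgroup H) = ⊥ := by
        obtain ⟨k, hk⟩ := P.2.exists_card_eq
        rcases Nat.eq_zero_or_pos k with h0 | h0
        · exact Subgroup.card_eq_one.mp (by rw [hk, h0, pow_zero])
        · exact absurd ((dvd_pow_self p h0.ne').trans (hk ▸ (P : Subgroup H).card_subgroup_dvd_card)) hd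
      rw [h1]; infer_instance
  · intro N hNn hN
    rcases hmin (N ⊓ A) inferInstance inf_le_right with h | h
    · exfalso
      obtain ⟨⟨y, hyN⟩, hy1⟩ := (Subgroup.ne_bot_iff_exists_ne_one (H := N)).mp hN
      have hyA : y ∉ A := fun hh => hy1 (Subtype.ext (Subgroup.mem_bot.mp (h ▸ Subgroup.mem_inf.mpr ⟨hyN, hh⟩)))
      exact hncent y hyA fun a ha =>
        Subgroup.commute_of_normal_of_disjoint _ _ hNn inferInstance (disjoint_iff.mpr h) y a hyN ha
    · refine isPClosed_of_card_dvd_prime ?_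
      rw [← Subgroup.index_eq_card, ← hidx]
      exact Subgroup.index_dvd_of_le (inf_eq_right.mp h)

end CfsgLib.Hall
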