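/-
A Frobenius group cannot act fixed-point-freely; solvable groups in which every element has
prime-power order involve at most two primes (G. Higman).
-/
import Cfsg.Agent.Hall.Pi

set_option autoImplicit false
set_option linter.style.haveILetI false

namespace CfsgLib.Hall

open scoped Pointwise IsMulCommutative

/-- If `Q` and `x` act without fixed points on the abelian subgroup `N` and `x` acts without fixed
points on `Q`, then every element of `N` has order dividing `|Q|`. -/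
theorem pow_card_eq_one_of_frobenius_action {G : Type*} [Group G] [Finite G] (N Q : Subgroup G)
    [IsMulCommutative N] (x : G) (r : ℕ) (hr : r.Prime) (hxr : x ^ r = 1) (hx : x ≠ 1)
    (hQN : Q ≤ Subgroup.normalizer (N : Set G)) (hxN : x ∈ Subgroup.normalizer (N : Set G))
    (hxQ : x ∈ Subgroup.normalizer (Q : Set G)) (hQ : Q ≠ ⊥)
    (hfN : ∀ v ∈ N, ∀ a ∈ Q, a ≠ 1 → a * v = v * a → v = 1)
    (hxfN : ∀ v ∈ N, ∀ a ∈ Q, (a * x * a⁻¹) * v = v * (a * x * a⁻¹) → v = 1)
    (hfQ : ∀ a ∈ Q, ∀ i : ℕ, 0 < i → i < r → a * x ^ i = x ^ i * a → a = 1)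
    (v : G) (hv : v ∈ N) : v ^ Nat.card Q = 1 := by
  classical
  haveI : Fintype Q := Fintype.ofFinite _
  let c : Subgroup.normalizer (N : Set G) → N →* N := fun g =>
    { toFun := fun u => ⟨(g : G) * u * (g : G)⁻¹, (Subgroup.mem_normalizer_iff.mp g.2 u).mp u.2⟩
      map_one' := Subtype.ext (by simp)
      map_mul' := fun u w => Subtype.ext (by simp [mul_assoc]) }
  have hc : ∀ g h u, c (g * h) u = c g (c h u) := fun g h u => Subtype.ext (by simp [c, mul_assoc])
  have hc1 : ∀ u, c 1 u = u := fun u => Subtype.ext (by simp [c])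
  let inj : Q → Subgroup.normalizer (N : Set G) := fun a => ⟨a, hQN a.2⟩
  let X : Subgroup.normalizer (N : Set G) := ⟨x, hxN⟩
  -- products over `Q` are fixed by `Q`
  have hQprod : ∀ u : N, ∏ b : Q, c (inj b) u = 1 := by
    intro u
    obtain ⟨b₀, hb₀, hb₀1⟩ := Q.bot_or_exists_ne_one.resolve_left hQ
    set w := ∏ b : Q, c (inj b) u with hw
    have hfix : c (inj ⟨b₀, hb₀⟩) w = w := by
      rw [hw, map_prod]
      simp_rw [← hc]
      exact Fintype.prod_equiv (Equiv.mulLeft ⟨b₀, hb₀⟩) _ _ (fun b => rfl)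
    have h1 : b₀ * (w : G) * b₀⁻¹ = w := congrArg Subtype.val hfix
    exact Subtype.ext (hfN _ w.2 b₀ hb₀ hb₀1 (mul_inv_eq_iff_eq_mul.mp h1))
  have hcyc : ∀ (a : Q) (u : N),
      ∏ i ∈ Finset.range r, c ((inj a * X * (inj a)⁻¹) ^ i) u = 1 := by
    intro a u
    set Y := inj a * X * (inj a)⁻¹ with hY
    have hYr : Y ^ r = 1 := by
      rw [hY, conj_pow, show X ^ r = 1 from Subtype.ext (by simpa [X] using hxr), mul_one,
        mul_inv_cancel]
    set w := ∏ i ∈ Finset.range r, c (Y ^ i) u with hw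
    have hfix : c Y w = w := by
      rw [hw, map_prod]
      simp_rw [← hc, ← pow_succ']
      have h1 := Finset.prod_range_succ (fun i => c (Y ^ i) u) r
      rw [Finset.prod_range_succ'] at h1
      simp only [pow_zero, hc1, hYr] at h1
      exact mul_right_cancel h1
    have h1 : (a : G) * x * (a : G)⁻¹ * (w : G) * ((a : G) * x * (a : G)⁻¹)⁻¹ = w :=
      congrArg Subtype.val hfix
    exact Subtype.ext (hxfN _ w.2 a a.2 (mul_inv_eq_iff_eq_mul.mp h1))
  -- regrouping
  have hsum : ∀ i ∈ Finset.range r,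
      ∏ a : Q, c ((inj a * X * (inj a)⁻¹) ^ i) ⟨v, hv⟩ =
        if i = 0 then (⟨v, hv⟩ : N) ^ Nat.card Q else 1 := by
    intro i hi
    split_ifs with h0
    · subst h0
      simp [hc1, Finset.prod_const, Nat.card_eq_fintype_card]
    · have hxi : x ^ i ∈ Subgroup.normalizer (Q : Set G) := Subgroup.pow_mem _ hxQ i
      let ψ : Q → Q := fun a =>
        ⟨(a : G) * (x ^ i * (a : G)⁻¹ * (x ^ i)⁻¹),
          Q.mul_mem a.2 ((Subgroup.mem_normalizer_iff.mp hxi _).mp (Q.inv_mem a.2))⟩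
      have hψ : Function.Bijective ψ := by
        refine Finite.injective_iff_bijective.mp fun a b hab => ?_
        have h1 : (a : G) * (x ^ i * (a : G)⁻¹ * (x ^ i)⁻¹) =
            (b : G) * (x ^ i * (b : G)⁻¹ * (x ^ i)⁻¹) := congrArg Subtype.val hab
        have h2 : ((b : G)⁻¹ * a) * x ^ i = x ^ i * ((b : G)⁻¹ * a) := by
          have := congrArg (fun z => (b : G)⁻¹ * z * x ^ i * a) h1
          simpa [mul_assoc] using this
        have h3 := hfQ _ (Q.mul_mem (Q.inv_mem b.2) a.2) i (Nat.pos_of_ne_zero h0)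
          (Finset.mem_range.mp hi) h2
        exact Subtype.ext (inv_mul_eq_one.mp h3).symm
      calc ∏ a : Q, c ((inj a * X * (inj a)⁻¹) ^ i) ⟨v, hv⟩
          = ∏ a : Q, c (inj (ψ a)) (c (X ^ i) ⟨v, hv⟩) := by
            refine Finset.prod_congr rfl fun a _ => ?_
            rw [← hc, conj_pow]
            congr 2
            exact Subtype.ext (by simp [inj, ψ, X, mul_assoc])
        _ = ∏ b : Q, c (inj b) (c (X ^ i) ⟨v, hv⟩) :=
            Fintype.prod_equiv (Equiv.ofBijective ψ hψ) _ _ (fun a => rfl)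
        _ = 1 := hQprod _
  have htot : ∏ i ∈ Finset.range r, ∏ a : Q, c ((inj a * X * (inj a)⁻¹) ^ i) ⟨v, hv⟩ = 1 := by
    rw [Finset.prod_comm]
    exact Finset.prod_eq_one fun a _ => hcyc a _
  rw [Finset.prod_congr rfl hsum, Finset.prod_ite_eq' (Finset.range r) 0,
    if_pos (Finset.mem_range.mpr hr.pos)] at htot
  simpa using congrArg Subtype.val htot

theorem eq_one_of_commute_of_isPrimePow {G : Type*} [Group G] [Finite G]
    (h : ∀ g : G, IsPrimePow (orderOf g) ∨ g = 1) {s t : ℕ} (hs : s.Prime) (ht : t.Prime)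
    (hst : s ≠ t) {a b : G} (ha : ∃ i, orderOf a = s ^ i) (hb : ∃ j, orderOf b = t ^ j)
    (hcomm : a * b = b * a) : a = 1 ∨ b = 1 := by
  obtain ⟨i, hi⟩ := ha
  obtain ⟨j, hj⟩ := hb
  by_contra hne
  push Not at hne
  have hi0 : i ≠ 0 := fun h0 => hne.1 (orderOf_eq_one_iff.mp (by rw [hi, h0, pow_zero]))
  have hj0 : j ≠ 0 := fun h0 => hne.2 (orderOf_eq_one_iff.mp (by rw [hj, h0, pow_zero]))
  have hco : (orderOf a).Coprime (orderOf b) := by
    rw [hi, hj]; exact Nat.Coprime.pow _ _ ((Nat.coprime_primes hs ht).mpr hst)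
  have hord : orderOf (a * b) = s ^ i * t ^ j := by
    rw [Commute.orderOf_mul_eq_mul_orderOf_of_coprime hcomm hco, hi, hj]
  rcases h (a * b) with hp | h1
  · rw [hord, isPrimePow_nat_iff] at hp
    obtain ⟨u, k, hu, -, huk⟩ := hp
    have e1 : s = u := (Nat.prime_dvd_prime_iff_eq hs hu).mp (hs.dvd_of_dvd_pow
      (huk ▸ Dvd.dvd.mul_right (dvd_pow_self s hi0) _))
    have e2 : t = u := (Nat.prime_dvd_prime_iff_eq ht hu).mp (ht.dvd_of_dvd_pow
      (huk ▸ Dvd.dvd.mul_left (dvd_pow_self t hj0) _))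
    exact hst (e1.trans e2.symm)
  · rw [h1, orderOf_one] at hord
    exact hs.ne_one (Nat.dvd_one.mp (hord.symm ▸ Dvd.dvd.mul_right (dvd_pow_self s hi0) _))

theorem at_most_two_primes {G : Type*} [Group G] [Finite G] [Group.IsSolvable G]
    (h : ∀ g : G, IsPrimePow (orderOf g) ∨ g = 1) : (Nat.card G).primeFactors.card ≤ 2 := by
  classical
  by_contra hcon
  push Not at hcon
  obtain ⟨S, hS, hS3⟩ := Finset.exists_subset_card_eq (s := (Nat.card G).primeFactors) (n := 3) hcon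
  obtain ⟨H, hH⟩ := exists_isPiHall (G := G) (↑S : Set ℕ)
  have hSprime : ∀ p ∈ S, p.Prime := fun p hp => Nat.prime_of_mem_primeFactors (hS hp)
  have hSH : ∀ p ∈ S, p ∣ Nat.card H := by
    intro p hp
    have hd : p ∣ Nat.card H * H.index :=
      H.card_mul_index.symm ▸ Nat.dvd_of_mem_primeFactors (hS hp)
    exact ((hSprime p hp).dvd_mul.mp hd).resolve_right (hH.2 p (hSprime p hp) hp)
  haveI : Nontrivial H := by
    rw [← Finite.one_lt_card_iff_nontrivial]
    obtain ⟨p, hp⟩ := Finset.card_pos.mp (by omega : 0 < S.card)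
    exact lt_of_lt_of_le (hSprime p hp).one_lt (Nat.le_of_dvd Nat.card_pos (hSH p hp))
  obtain ⟨N, hN⟩ := exists_isMinNormal (G := H)
  haveI := hN.1
  obtain ⟨s, hs, habel, hsN, -⟩ := hN.elementaryAbelian
  haveI := habel
  haveI := Fact.mk hs
  obtain ⟨j, hj⟩ := hsN.exists_card_eq
  have hj0 : j ≠ 0 := by
    rintro rfl
    exact hN.2.1 (Subgroup.card_eq_one.mp (by simpa using hj))
  have hsS : s ∈ S := hH.1 s hs ((dvd_pow_self s hj0).trans (hj ▸ N.card_subgroup_dvd_card))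
  obtain ⟨R, hR⟩ := exists_isPiHall (G := H) (↑(S.erase s) : Set ℕ)
  have hRd : ∀ p ∈ S.erase s, p ∣ Nat.card R := by
    intro p hp
    have hpS := Finset.mem_of_mem_erase hp
    have hd : p ∣ Nat.card R * R.index := R.card_mul_index.symm ▸ hSH p hpS
    exact ((hSprime p hpS).dvd_mul.mp hd).resolve_right (hR.2 p (hSprime p hpS) hp)
  have hcard2 : (S.erase s).card = 2 := by rw [Finset.card_erase_of_mem hsS, hS3]
  haveI : Nontrivial R := by
    rw [← Finite.one_lt_card_iff_nontrivial]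
    obtain ⟨p, hp⟩ := Finset.card_pos.mp (by omega : 0 < (S.erase s).card)
    exact lt_of_lt_of_le (hSprime p (Finset.mem_of_mem_erase hp)).one_lt
      (Nat.le_of_dvd Nat.card_pos (hRd p hp))
  obtain ⟨Q₀, hQ₀⟩ := exists_isMinNormal (G := R)
  obtain ⟨t, ht, -, htQ, -⟩ := hQ₀.elementaryAbelian
  haveI := Fact.mk ht
  obtain ⟨e, he⟩ := htQ.exists_card_eq
  have he0 : e ≠ 0 := by
    rintro rfl
    exact hQ₀.2.1 (Subgroup.card_eq_one.mp (by simpa using he))
  have htS : t ∈ S.erase s := hR.1 t ht ((dvd_pow_self t he0).trans (he ▸ Q₀.card_subgroup_dvd_card))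
  obtain ⟨u, hu⟩ := Finset.card_pos.mp
    (show 0 < ((S.erase s).erase t).card by rw [Finset.card_erase_of_mem htS, hcard2]; omega)
  have huS := Finset.mem_of_mem_erase hu
  have hut : u ≠ t := Finset.ne_of_mem_erase hu
  have hus : u ≠ s := Finset.ne_of_mem_erase huS
  have hts : t ≠ s := Finset.ne_of_mem_erase htS
  have hup : u.Prime := hSprime u (Finset.mem_of_mem_erase huS)
  haveI := Fact.mk hup
  obtain ⟨x, hx⟩ := exists_prime_orderOf_dvd_card' u (hRd u huS)
  have hpp : ∀ g : H, IsPrimePow (orderOf g) ∨ g = 1 := fun g =>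
    (h (g : G)).imp (fun hg => by rwa [Subgroup.orderOf_coe] at hg) (fun hg => Subtype.ext hg)
  have hxo : ∀ a : R, ∃ i, orderOf ((a : H) * (x : H) * (a : H)⁻¹) = u ^ i := fun a => ⟨1, by
    rw [pow_one, ← hx]
    have : (a : H) * (x : H) * (a : H)⁻¹ = ((a * x * a⁻¹ : R) : H) := rfl
    rw [this, Subgroup.orderOf_coe]; exact (MulEquiv.orderOf_eq (MulAut.conj a) x)⟩
  have hx1 : (x : H) ≠ 1 := by
    intro h1
    rw [← Subgroup.orderOf_coe, h1, orderOf_one] at hx
    exact hup.ne_one hx.symm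
  set Q := Q₀.map R.subtype with hQdef
  have hnorm : ∀ g : H, g ∈ Subgroup.normalizer (N : Set H) := fun g => by
    rw [Subgroup.normalizer_eq_top_iff.mpr hN.1]; trivial
  have hQo : ∀ a ∈ Q, ∃ i, orderOf a = t ^ i := fun a ha => by
    obtain ⟨k, hk⟩ := IsPGroup.iff_orderOf.mp (htQ.map R.subtype) ⟨a, ha⟩
    exact ⟨k, by rw [← hk]; exact orderOf_injective (Subgroup.subtype _) Subtype.val_injective ⟨_, _⟩⟩
  have hNo : ∀ v ∈ N, ∃ i, orderOf v = s ^ i := fun v hv => by
    obtain ⟨k, hk⟩ := IsPGroup.iff_orderOf.mp hsN ⟨v, hv⟩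
    exact ⟨k, by rw [← hk]; exact orderOf_injective (Subgroup.subtype _) Subtype.val_injective ⟨_, _⟩⟩
  obtain ⟨v, hv, hv1⟩ := N.bot_or_exists_ne_one.resolve_left hN.2.1
  have hpow := pow_card_eq_one_of_frobenius_action N Q (x : H) u hup
    (by rw [← hx, ← Subgroup.coe_pow, pow_orderOf_eq_one, Subgroup.coe_one]) hx1
    (fun g _ => hnorm g) (hnorm _) ?_ ?_ ?_ ?_ ?_ v hv
  · apply hv1
    obtain ⟨i, hi⟩ := hNo v hv
    rw [hQdef, Subgroup.card_map_of_injective R.subtype_injective, he] at hpow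
    exact orderOf_eq_one_iff.mp (Nat.eq_one_of_dvd_coprimes
      (Nat.Coprime.pow i e ((Nat.coprime_primes hs ht).mpr hts.symm)) hi.dvd
      (orderOf_dvd_of_pow_eq_one hpow))
  · rw [Subgroup.mem_normalizer_iff]
    intro z
    constructor
    · rintro ⟨y, hy, rfl⟩
      exact ⟨x * y * x⁻¹, hQ₀.1.conj_mem y hy x, rfl⟩
    · rintro ⟨y, hy, hyz⟩
      refine ⟨x⁻¹ * y * x⁻¹⁻¹, hQ₀.1.conj_mem y hy _, ?_⟩
      change (x : H)⁻¹ * (y : H) * (x : H)⁻¹⁻¹ = z
      rw [show (y : H) = (x : H) * z * (x : H)⁻¹ from hyz]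
      simp [mul_assoc]
  · exact fun h' => hQ₀.2.1 ((Subgroup.map_eq_bot_iff_of_injective _ R.subtype_injective).mp h')
  · intro w hw a ha ha1 hcomm
    exact (eq_one_of_commute_of_isPrimePow hpp ht hs hts (hQo a ha) (hNo w hw) hcomm).resolve_left ha1
  · intro w hw a ha hcomm
    obtain ⟨a', -, rfl⟩ := ha
    refine (eq_one_of_commute_of_isPrimePow hpp hup hs hus (hxo a') (hNo w hw) hcomm).resolve_left ?_
    exact fun h1 => hx1 (conj_eq_one_iff.mp h1)
  · intro a ha i hi0 hiu hcomm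
    refine (eq_one_of_commute_of_isPrimePow hpp ht hup (Ne.symm hut) (hQo a ha) ⟨1, ?_⟩ hcomm).resolve_right ?_
    · have hco : (orderOf (x : H)).Coprime i := by
        rw [Subgroup.orderOf_coe, hx]
        exact (hup.coprime_iff_not_dvd).mpr (Nat.not_dvd_of_pos_of_lt hi0 hiu)
      rw [hco.orderOf_pow, Subgroup.orderOf_coe, hx, pow_one]
    · intro h1
      have hd : orderOf (x : H) ∣ i := orderOf_dvd_of_pow_eq_one h1
      rw [Subgroup.orderOf_coe, hx] at hd
      exact Nat.not_dvd_of_pos_of_lt hi0 hiu hd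

end CfsgLib.Hall
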